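import Groth.Agent.Lift.K724.P1Van
import Groth.Agent.S9370
import Groth.Agent.S5015
import Groth.Agent.PerfB.FibreConc
import Groth.Agent.PerfA.CohSerre
import Groth.Agent.Dual.H339.OmegaRank

/-!
# Maps from the projective line to a scheme with a Frobenius-fixed module of differentials
-/

set_option autoImplicit false
universe u

open CategoryTheory CategoryTheory.Limits AlgebraicGeometry Opposite TopologicalSpace
open K724.P1Van

namespace K724.CurveMap

variable {k : Type u} [Field k] {p : ℕ} [Fact p.Prime]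

/-- A nonempty scheme smooth of relative dimension one has nonzero differentials. -/
theorem not_isZero_omega {V S : Scheme.{u}} (q : V ⟶ S) [QuasiSeparated q] [SmoothOfRelativeDimension 1 q] [Nonempty V] :
    ¬ IsZero (Omega.sheaf q) := by
  have hrk := Groth.Agent.Dual.H339.OmegaRank.isFinLocFreeOfRank_omega 1 q
  have hinv : PicF.IsInvertible (Omega.sheaf q) := by
    intro x
    obtain ⟨U, hU, ⟨e⟩⟩ := hrk x
    exact ⟨U, hU, ⟨e ≪≫ Limits.coproductUniqueIso (fun _ : Fin 1 => Coh.structureModule (↑U : Scheme.{u}))⟩⟩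
  exact K704.InvHom.not_isZero hinv

variable {X : Scheme.{u}} (f : X ⟶ Spec (CommRingCat.of k)) [QuasiSeparated f] [FrobSch.IsCharP X p]
  [FrobSch.IsCharP (CohB1.ProjSpace 1 k) p]

/-- The pullback of a Frobenius-fixed module is Frobenius-fixed. -/
noncomputable def fixedPull {P : Scheme.{u}} [FrobSch.IsCharP P p] (u : P ⟶ X) {M : X.Modules}
    (e : (Scheme.Modules.pullback (FrobSch.frob X p)).obj M ≅ M) :
    (Scheme.Modules.pullback (FrobSch.frob P p)).obj ((Scheme.Modules.pullback u).obj M) ≅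
      (Scheme.Modules.pullback u).obj M :=
  (Scheme.Modules.pullbackComp (FrobSch.frob P p) u).app M ≪≫
    (Scheme.Modules.pullbackCongr (FrobSch.frob_comp p u)).app M ≪≫
    ((Scheme.Modules.pullbackComp u (FrobSch.frob X p)).app M).symm ≪≫ (Scheme.Modules.pullback u).mapIso e

/-- The map on differentials of a map from the projective line vanishes. -/
theorem diff_eq_zero {n : ℕ} (hrk : FlatMod.IsFinLocFreeOfRank n (Omega.sheaf f))
    (e : (Scheme.Modules.pullback (FrobSch.frob X p)).obj (Omega.sheaf f) ≅ Omega.sheaf f)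
    (u : CohB1.ProjSpace 1 k ⟶ X)
    (c : (Scheme.Modules.pullback u).obj (Omega.sheaf f) ⟶ Omega.sheaf (CohB1.ProjSpace.toSpec 1 k)) : c = 0 := by
  have hE : Coh.IsCoh ((Scheme.Modules.pullback u).obj (Omega.sheaf f)) :=
    K704.Base.isCoh_of_rank (Groth.Agent.PerfB.FibreConc.isFinLocFreeOfRank_pullback u hrk)
  obtain ⟨a, ha, ⟨eL⟩⟩ := exists_omega_iso k
  exact eq_zero_of_fixed (p := p) hE (fixedPull u e) ha eL c

/-- No restriction of a map from the projective line to a nonempty open is a monomorphism. -/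
theorem not_mono {n : ℕ} (hrk : FlatMod.IsFinLocFreeOfRank n (Omega.sheaf f))
    (e : (Scheme.Modules.pullback (FrobSch.frob X p)).obj (Omega.sheaf f) ≅ Omega.sheaf f)
    (u : CohB1.ProjSpace 1 k ⟶ X) (hu : u ≫ f = CohB1.ProjSpace.toSpec 1 k) (V : (CohB1.ProjSpace 1 k).Opens)
    [Nonempty V] [Mono (V.ι ≫ u)] : False := by
  have hp : IsProper (CohB1.ProjSpace.toSpec 1 k) := Groth.Agent.Ega3B.ProjProper.isProper_toSpec 1 k
  have hsm : SmoothOfRelativeDimension 1 (CohB1.ProjSpace.toSpec 1 k) := inferInstance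
  obtain ⟨c, hc, -⟩ := Groth.Agent.S9370.result f (CohB1.ProjSpace.toSpec 1 k) u (𝟙 _) (by rw [Category.comp_id, hu])
    _ (OmegaSh.dOmega f) (K136.UnivOmega.isUniversal_dOmega f) _ (OmegaSh.dOmega (CohB1.ProjSpace.toSpec 1 k))
    (K136.UnivOmega.isUniversal_dOmega _)
  have hc0 := diff_eq_zero f hrk e u c
  subst hc0
  have hsmV : SmoothOfRelativeDimension 1 (V.ι ≫ CohB1.ProjSpace.toSpec 1 k) :=
    IsZariskiLocalAtSource.comp (P := @SmoothOfRelativeDimension 1) hsm V.ι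
  obtain ⟨c₁, hc₁, -⟩ := Groth.Agent.S9370.result (CohB1.ProjSpace.toSpec 1 k) (V.ι ≫ CohB1.ProjSpace.toSpec 1 k) V.ι (𝟙 _)
    (by rw [Category.comp_id])
    _ (OmegaSh.dOmega (CohB1.ProjSpace.toSpec 1 k)) (K136.UnivOmega.isUniversal_dOmega _) _
    (OmegaSh.dOmega (V.ι ≫ CohB1.ProjSpace.toSpec 1 k)) (K136.UnivOmega.isUniversal_dOmega _)
  have h0 : OmegaSh.IsDiffCompat (V.ι ≫ u) (OmegaSh.dOmega f) (OmegaSh.dOmega (V.ι ≫ CohB1.ProjSpace.toSpec 1 k)) 0 := by
    intro U s
    have h1 : (0 : Γ(Omega.sheaf (CohB1.ProjSpace.toSpec 1 k), u ⁻¹ᵁ U)) =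
        (OmegaSh.dOmega (CohB1.ProjSpace.toSpec 1 k)).app (u ⁻¹ᵁ U) (u.app U s) := hc U s
    have h2 := hc₁ (u ⁻¹ᵁ U) (u.app U s)
    rw [← h1, map_zero, map_zero] at h2
    have h3 : (V.ι ≫ u).app U s = V.ι.app (u ⁻¹ᵁ U) (u.app U s) := by
      rw [Scheme.Hom.comp_app]; rfl
    rw [h3]
    exact h2
  have h1 := (Groth.Agent.S5015.result f (V.ι ≫ CohB1.ProjSpace.toSpec 1 k) (V.ι ≫ u) (by rw [Category.assoc, hu])
    _ (OmegaSh.dOmega f) (K136.UnivOmega.isUniversal_dOmega f) _ _ (K136.UnivOmega.isUniversal_dOmega _) 0 h0).1 inferInstance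
  exact not_isZero_omega (V.ι ≫ CohB1.ProjSpace.toSpec 1 k) (IsZero.of_epi_zero ((Scheme.Modules.pullback (V.ι ≫ u)).obj (Omega.sheaf f)) _)

end K724.CurveMap
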