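import Groth.Agent.Lift.K724.Psi
import Groth.Agent.Sga67.ExtSheaf
import Groth.Agent.Disp.K789.ExtPow

/-!
# Exterior powers of `p`-semilinear maps of modules
-/

set_option autoImplicit false
universe u

open CategoryTheory CategoryTheory.Limits AlgebraicGeometry Opposite TopologicalSpace
open Groth.Agent.Sga67.Sec Groth.Agent.Sga67.ExtSheaf
open K724.Psi

namespace K724.ExtPush

variable {X : Scheme.{u}} {p : ℕ} [Fact p.Prime] [FrobSch.IsCharP X p] {M N L K : X.Modules}

/-- The Frobenius of the ring of sections. -/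
noncomputable def frobU (X : Scheme.{u}) (p : ℕ) [Fact p.Prime] [FrobSch.IsCharP X p] (U : X.Opens) :
    Γ(X, U) →+* Γ(X, U) := ((FrobSch.frob X p).app U).hom

theorem frobU_apply (U : X.Opens) (a : Γ(X, U)) : frobU X p U a = a ^ p := rfl

/-- The semilinear map on sections. -/
noncomputable def smL (Φ : M ⟶ (Scheme.Modules.pushforward (FrobSch.frob X p)).obj N) (U : X.Opens) :
    Sec M U →ₛₗ[frobU X p U] Sec N U where
  toFun := sm Φ U
  map_add' := map_add (sm Φ U)
  map_smul' a s := sm_smul Φ U a s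

theorem smL_apply (Φ : M ⟶ (Scheme.Modules.pushforward (FrobSch.frob X p)).obj N) (U : X.Opens)
    (s : Sec M U) : smL Φ U s = sm Φ U s := rfl

/-- The exterior power of a morphism `M ⟶ F_* N`. -/
theorem exists_ext {n : ℕ} (Φ : M ⟶ (Scheme.Modules.pushforward (FrobSch.frob X p)).obj N)
    (φ : Phi n M L) (hφ : PhiComp φ) (ψ : Phi n N K) (hψ : PhiComp ψ) :
    ∃ Θ : L ⟶ (Scheme.Modules.pushforward (FrobSch.frob X p)).obj K,
      ∀ (U : X.affineOpens) (e : Fin n → Sec M U.1),
        sm Θ U.1 ((φ U).symm (exteriorPower.ιMulti _ n e)) =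
          (ψ U).symm (exteriorPower.ιMulti _ n fun j => sm Φ U.1 (e j)) := by
  let θ : ∀ U : X.affineOpens, Sec L U.1 →+ Sec K U.1 := fun U =>
    AddMonoidHom.mk' (fun s => (ψ U).symm (K789.ExtPow.mapSemi (frobU X p U.1) (smL Φ U.1) n (φ U s)))
      (fun a b => by rw [map_add, map_add, map_add])
  have hθ : ∀ (U : X.affineOpens) (a : Γ(X, U.1)) s, θ U (a • s) = a ^ p • θ U s := by
    intro U a s
    change (ψ U).symm (K789.ExtPow.mapSemi (frobU X p U.1) (smL Φ U.1) n (φ U (a • s))) = _
    rw [map_smul, LinearMap.map_smulₛₗ, map_smul]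
    rfl
  have hθι : ∀ (U : X.affineOpens) (e : Fin n → Sec M U.1),
      θ U ((φ U).symm (exteriorPower.ιMulti _ n e)) =
        (ψ U).symm (exteriorPower.ιMulti _ n fun j => sm Φ U.1 (e j)) := by
    intro U e
    change (ψ U).symm (K789.ExtPow.mapSemi (frobU X p U.1) (smL Φ U.1) n (φ U _)) = _
    rw [LinearEquiv.apply_symm_apply, K789.ExtPow.mapSemi_ιMulti]
    rfl
  obtain ⟨Θ, hΘ⟩ := exists_push (affineBasis X) (M := L) (N := K) (p := p) θ hθ (by
    intro U V h s
    refine phi_induction φ U (C := fun s => θ V (res L h s) = res K h (θ U s)) ?_ ?_ ?_ ?_ s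
    · rw [map_zero, map_zero, map_zero, map_zero]
    · intro x y hx hy
      rw [map_add, map_add, map_add, map_add, hx, hy]
    · intro a x hx
      rw [res_smul, hθ, hθ, res_smul, map_pow, hx]
    · intro e
      rw [hφ U V h e, hθι, hθι, hψ U V h]
      congr 2
      funext j
      exact sm_res Φ h (e j))
  exact ⟨Θ, fun U e => (hΘ U _).trans (hθι U e)⟩

end K724.ExtPush
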