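import Mathlib.RingTheory.Derivation.Basic
import Mathlib.RingTheory.Kaehler.Basic
import Mathlib.Algebra.CharP.Lemmas
import Mathlib.Data.Nat.Choose.Dvd
import Mathlib.Tactic.LinearCombination

/-!
# The divided Frobenius on differentials attached to a lift of Frobenius modulo `p²`

`PLift p π` : `π : B → A` is surjective with kernel `pB` and `p b = 0 ↔ π b = 0` (a flat lift modulo `p²`).
For a ring endomorphism `Φ` of `B` reducing to the `p`-th power map, `δ b` is the element with
`Φ b = b ^ p + p δ b`, and for a derivation `D` of `A` the map `b ↦ (π b)^(p-1) D(π b) + D(δ b)` is additive, satisfies the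
Leibniz rule with respect to the `p`-th power map and only depends on `π b`.
-/

set_option autoImplicit false
universe u v w

open scoped KaehlerDifferential

namespace K724.FrobDiff

section poly

variable {R : Type u} {A : Type v} {M : Type w} [CommRing R] [CommRing A] [Algebra R A] [AddCommGroup M]
  [Module A M] [Module R M] (D : Derivation R A M)

theorem sum_Ioo (q : ℕ) {N : Type*} [AddCommMonoid N] (f : ℕ → N) :
    ∑ k ∈ Finset.Ioo 0 (q + 1), f k = ∑ m ∈ Finset.range q, f (m + 1) := by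
  have : Finset.Ioo 0 (q + 1) = Finset.Ico 1 (q + 1) := by
    ext k; simp only [Finset.mem_Ioo, Finset.mem_Ico]; omega
  rw [this, Finset.sum_Ico_eq_sum_range]
  refine Finset.sum_congr (by simp) fun m _ => by rw [add_comm]

theorem sum_left (q : ℕ) (x y : A) :
    ∑ k ∈ Finset.Ioo 0 (q + 1), x ^ (k - 1) * y ^ (q + 1 - k) * (q.choose (k - 1) : A) =
      (x + y) ^ q - x ^ q := by
  rw [sum_Ioo, add_pow, Finset.sum_range_succ]
  simp only [Nat.choose_self, Nat.cast_one, mul_one, Nat.sub_self, pow_zero]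
  rw [add_sub_cancel_right]
  refine Finset.sum_congr rfl fun m hm => ?_
  rw [Nat.add_sub_cancel, Nat.add_sub_add_right]

theorem sum_right (q : ℕ) (x y : A) :
    ∑ k ∈ Finset.Ioo 0 (q + 1), x ^ k * y ^ (q - k) * (q.choose k : A) =
      (x + y) ^ q - y ^ q := by
  rw [sum_Ioo, add_pow, Finset.sum_range_succ']
  simp

theorem mul_choose_div {p : ℕ} (hp : p.Prime) {k : ℕ} (h0 : 0 < k) (h1 : k < p) :
    k * (p.choose k / p) = (p - 1).choose (k - 1) := by
  obtain ⟨q, rfl⟩ : ∃ q, p = q + 1 := ⟨p - 1, by omega⟩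
  obtain ⟨m, rfl⟩ : ∃ m, k = m + 1 := ⟨k - 1, by omega⟩
  obtain ⟨c, hc⟩ := hp.dvd_choose_self (Nat.pos_iff_ne_zero.mp h0) h1
  rw [hc, Nat.mul_div_cancel_left _ hp.pos]
  have := Nat.add_one_mul_choose_eq q m
  rw [hc] at this
  have h2 : (q + 1) * (q.choose m) = (q + 1) * ((m + 1) * c) := by
    rw [this]; ring
  simpa using (Nat.eq_of_mul_eq_mul_left (by omega) h2).symm

theorem sub_mul_choose_div {p : ℕ} (hp : p.Prime) {k : ℕ} (h0 : 0 < k) (h1 : k < p) :
    (p - k) * (p.choose k / p) = (p - 1).choose k := by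
  have := mul_choose_div hp (k := p - k) (by omega) (by omega)
  rw [Nat.choose_symm h1.le] at this
  rw [this, ← Nat.choose_symm (n := p - 1) (k := k) (by omega)]
  congr 1
  omega

/-- The derivative of `((x + y)^p - x^p - y^p)/p`. -/
theorem D_sum {p : ℕ} (hp : p.Prime) (x y : A) :
    D (∑ k ∈ Finset.Ioo 0 p, x ^ k * y ^ (p - k) * ((p.choose k / p : ℕ) : A)) =
      ((x + y) ^ (p - 1) - x ^ (p - 1)) • D x + ((x + y) ^ (p - 1) - y ^ (p - 1)) • D y := by
  obtain ⟨q, rfl⟩ : ∃ q, p = q + 1 := ⟨p - 1, by have := hp.pos; omega⟩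
  rw [Nat.add_sub_cancel, ← sum_left q x y, ← sum_right q x y, map_sum, Finset.sum_smul,
    Finset.sum_smul, ← Finset.sum_add_distrib]
  refine Finset.sum_congr rfl fun k hk => ?_
  rw [Finset.mem_Ioo] at hk
  have e1 := mul_choose_div hp hk.1 hk.2
  have e2 := sub_mul_choose_div hp hk.1 hk.2
  rw [Nat.add_sub_cancel] at e1 e2
  rw [← e1, ← e2, Derivation.leibniz, Derivation.map_natCast, smul_zero, zero_add,
    Derivation.leibniz, Derivation.leibniz_pow, Derivation.leibniz_pow]
  have h3 : q + 1 - k - 1 = q - k := by omega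
  rw [h3]
  push_cast [Nat.cast_sub hk.2.le]
  simp only [smul_add, ← Nat.cast_smul_eq_nsmul A, smul_smul]
  rw [add_comm]
  congr 2
  · ring
  · have : ((q + 1 - k : ℕ) : A) = (q + 1 - k : A) := by
      rw [Nat.cast_sub hk.2.le]; push_cast; ring
    rw [this]; ring

end poly

section lift

/-- `π : B → A` is surjective with kernel `pB`, and `p b = 0` exactly when `π b = 0`. -/
structure PLift (p : ℕ) {A : Type u} {B : Type v} [CommRing A] [CommRing B] (π : B →+* A) : Prop where
  surj : Function.Surjective π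
  tors : ∀ b : B, (p : B) * b = 0 → π b = 0
  ker : ∀ b : B, π b = 0 → ∃ b', b = (p : B) * b'
  pi_p : (p : A) = 0
  sq : (p : B) * (p : B) = 0

variable {p : ℕ} {A : Type u} {B : Type v} [CommRing A] [CommRing B] {π : B →+* A}
  (h : PLift p π)

include h in
theorem PLift.mul_eq_zero {b : B} (hb : π b = 0) : (p : B) * b = 0 := by
  obtain ⟨c, rfl⟩ := h.ker b hb
  rw [← mul_assoc, h.sq, zero_mul]

/-- Multiplication by `p`, as an additive map `A → B`. -/
noncomputable def j : A →+ B where
  toFun a := (p : B) * Function.surjInv h.surj a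
  map_zero' := h.mul_eq_zero (Function.surjInv_eq h.surj 0)
  map_add' a b := by
    rw [← sub_eq_zero, ← mul_add, ← mul_sub]
    apply h.mul_eq_zero
    rw [map_sub, map_add, Function.surjInv_eq h.surj, Function.surjInv_eq h.surj,
      Function.surjInv_eq h.surj, sub_self]

theorem j_pi (b : B) : j h (π b) = (p : B) * b := by
  change (p : B) * Function.surjInv h.surj (π b) = _
  rw [← sub_eq_zero, ← mul_sub]
  apply h.mul_eq_zero
  rw [map_sub, Function.surjInv_eq h.surj, sub_self]

theorem j_injective : Function.Injective (j h) := by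
  rw [injective_iff_map_eq_zero]
  intro a ha
  obtain ⟨b, rfl⟩ := h.surj a
  rw [j_pi] at ha
  exact h.tors b ha

theorem exists_j (b : B) (hb : π b = 0) : ∃ a, j h a = b := by
  obtain ⟨c, rfl⟩ := h.ker b hb
  exact ⟨π c, j_pi h c⟩

theorem j_mul (a : A) (b : B) : j h (π b * a) = b * j h a := by
  obtain ⟨c, rfl⟩ := h.surj a
  rw [← map_mul, j_pi, j_pi]; ring

theorem pi_j (a : A) : π (j h a) = 0 := by
  obtain ⟨b, rfl⟩ := h.surj a
  rw [j_pi, map_mul, map_natCast, h.pi_p, zero_mul]

theorem j_mul_j (a b : A) : j h a * j h b = 0 := by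
  rw [← j_mul, pi_j, zero_mul, map_zero]

variable (Φ : B →+* B) (hΦ : ∀ b, π (Φ b) = π b ^ p)

/-- The element `δ b` with `Φ b = b ^ p + p δ b`. -/
noncomputable def del (b : B) : A :=
  (exists_j h (Φ b - b ^ p) (by rw [map_sub, map_pow, hΦ, sub_self])).choose

theorem j_del (b : B) : j h (del h Φ hΦ b) = Φ b - b ^ p :=
  (exists_j h (Φ b - b ^ p) (by rw [map_sub, map_pow, hΦ, sub_self])).choose_spec

theorem eq_del {a : A} {b : B} (hab : j h a = Φ b - b ^ p) : a = del h Φ hΦ b :=
  j_injective h (hab.trans (j_del h Φ hΦ b).symm)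

theorem del_add [hp : Fact p.Prime] (b c : B) :
    del h Φ hΦ (b + c) = del h Φ hΦ b + del h Φ hΦ c -
      ∑ k ∈ Finset.Ioo 0 p, π b ^ k * π c ^ (p - k) * ((p.choose k / p : ℕ) : A) := by
  symm
  apply eq_del
  have e : ∑ k ∈ Finset.Ioo 0 p, π b ^ k * π c ^ (p - k) * ((p.choose k / p : ℕ) : A) =
      π (∑ k ∈ Finset.Ioo 0 p, b ^ k * c ^ (p - k) * ((p.choose k / p : ℕ) : B)) := by
    rw [map_sum]
    refine Finset.sum_congr rfl fun k _ => ?_
    rw [map_mul, map_mul, map_pow, map_pow, map_natCast]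
  rw [map_sub, map_add, j_del, j_del, e, j_pi, map_add, add_pow_prime_eq' hp.out]
  ring

theorem del_mul (b c : B) :
    del h Φ hΦ (b * c) = π b ^ p * del h Φ hΦ c + π c ^ p * del h Φ hΦ b := by
  symm
  apply eq_del
  have h0 : j h (del h Φ hΦ b) * j h (del h Φ hΦ c) = 0 := j_mul_j h _ _
  rw [j_del, j_del] at h0
  rw [map_add, ← map_pow, ← map_pow, j_mul, j_mul, j_del, j_del, map_mul]
  linear_combination -h0

theorem del_j [hp : Fact p.Prime] (a : A) : del h Φ hΦ (j h a) = a ^ p := by
  symm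
  apply eq_del
  obtain ⟨b, rfl⟩ := h.surj a
  have h2 : (j h (π b)) ^ p = 0 :=
    pow_eq_zero_of_le hp.out.two_le (by rw [pow_two, j_mul_j])
  rw [h2, sub_zero, j_pi, map_mul, map_natCast, ← hΦ, j_pi]

end lift

section psi

variable {p : ℕ} {A : Type u} {B : Type v} [CommRing A] [CommRing B] {π : B →+* A}
  (h : PLift p π) (Φ : B →+* B) (hΦ : ∀ b, π (Φ b) = π b ^ p) [hp : Fact p.Prime]
  {R : Type*} {M : Type w} [CommRing R] [Algebra R A] [AddCommGroup M] [Module A M] [Module R M]
  (D : Derivation R A M)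

include h in
theorem p_smul (m : M) : (p : A) • m = 0 := by rw [h.pi_p, zero_smul]

/-- `b ↦ (π b)^(p-1) D(π b) + D(δ b)`. -/
noncomputable def psi0 (b : B) : M := π b ^ (p - 1) • D (π b) + D (del h Φ hΦ b)

theorem psi0_add (b c : B) : psi0 h Φ hΦ D (b + c) = psi0 h Φ hΦ D b + psi0 h Φ hΦ D c := by
  rw [psi0, psi0, psi0, del_add, map_sub, map_add, D_sum D hp.out, map_add, map_add, smul_add,
    sub_smul, sub_smul]
  abel

theorem D_pow_p (a : A) (h : (p : A) = 0) : D (a ^ p) = 0 := by
  rw [Derivation.leibniz_pow, ← Nat.cast_smul_eq_nsmul A, h, zero_smul]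

theorem psi0_mul (b c : B) :
    psi0 h Φ hΦ D (b * c) = π b ^ p • psi0 h Φ hΦ D c + π c ^ p • psi0 h Φ hΦ D b := by
  obtain ⟨q, rfl⟩ : ∃ q, p = q + 1 := ⟨p - 1, by have := hp.out.pos; omega⟩
  rw [psi0, psi0, psi0, del_mul, map_add, Derivation.leibniz, Derivation.leibniz, map_mul,
    Derivation.leibniz, D_pow_p D _ h.pi_p, D_pow_p D _ h.pi_p, smul_zero, smul_zero, add_zero,
    add_zero, Nat.add_sub_cancel]
  simp only [smul_add, smul_smul]
  have e1 : (π b * π c) ^ q * π b = π b ^ (q + 1) * π c ^ q := by ring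
  have e2 : (π b * π c) ^ q * π c = π c ^ (q + 1) * π b ^ q := by ring
  rw [e1, e2]
  abel

theorem psi0_j (a : A) : psi0 h Φ hΦ D (j h a) = 0 := by
  rw [psi0, del_j, D_pow_p D _ h.pi_p, pi_j, map_zero, smul_zero, add_zero]

theorem psi0_eq {b c : B} (hbc : π b = π c) : psi0 h Φ hΦ D b = psi0 h Φ hΦ D c := by
  obtain ⟨a, ha⟩ := exists_j h (b - c) (by rw [map_sub, hbc, sub_self])
  have : b = c + j h a := by rw [ha]; ring
  rw [this, psi0_add, psi0_j, add_zero]

/-- The twist of a module along the ring endomorphism `F`. -/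
def Tw (_F : A →+* A) (N : Type*) : Type _ := N

instance (F : A →+* A) : AddCommGroup (Tw F M) := inferInstanceAs (AddCommGroup M)
instance (F : A →+* A) : Module A (Tw F M) := Module.compHom M F

theorem Tw_smul (F : A →+* A) (a : A) (m : Tw F M) : a • m = (show M from F a • (show M from m)) := rfl

/-- A ring in which the elements of the base are `p`-th powers: the divided Frobenius `ψ` on a universal module of
differentials. -/
theorem exists_psi {S : Type*} [CommRing S] [Algebra S A] (hS : ∀ s : S, ∃ a : A, algebraMap S A s = a ^ p)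
    (F : A →+* A) (hF : ∀ a, F a = a ^ p) (ε : Ω[A⁄S] ≃ₗ[A] M)
    (hε : ∀ a, ε (KaehlerDifferential.D S A a) = D a) :
    ∃ ψ : M →ₛₗ[F] M, ∀ b, ψ (D (π b)) = psi0 h Φ hΦ D b := by
  let _ : Module S (Tw F M) := Module.compHom (Tw F M) (algebraMap S A)
  have _ : IsScalarTower S A (Tw F M) := ⟨fun s a m => by
    change (s • a) • m = (algebraMap S A s) • (a • m)
    rw [Algebra.smul_def, mul_smul]⟩
  let g : A → M := fun a => psi0 h Φ hΦ D (Function.surjInv h.surj a)
  have hg : ∀ b, g (π b) = psi0 h Φ hΦ D b := fun b =>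
    psi0_eq h Φ hΦ D (Function.surjInv_eq h.surj _)
  have gadd : ∀ a a', g (a + a') = g a + g a' := by
    intro a a'
    obtain ⟨b, rfl⟩ := h.surj a
    obtain ⟨b', rfl⟩ := h.surj a'
    rw [← map_add, hg, hg, hg, psi0_add]
  have gmul : ∀ a a', g (a * a') = F a • g a' + F a' • g a := by
    intro a a'
    obtain ⟨b, rfl⟩ := h.surj a
    obtain ⟨b', rfl⟩ := h.surj a'
    rw [← map_mul, hg, hg, hg, psi0_mul, hF, hF]
  let gD : Derivation ℤ A (Tw F M) :=
    Derivation.mk' (AddMonoidHom.toIntLinearMap (AddMonoidHom.mk' (M := A) (G := Tw F M) g gadd))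
      (fun a a' => gmul a a')
  have gS : ∀ s : S, g (algebraMap S A s) = 0 := by
    intro s
    obtain ⟨a, ha⟩ := hS s
    rw [ha]
    have e1 : gD (a ^ p) = 0 := by
      rw [Derivation.leibniz_pow, ← Nat.cast_smul_eq_nsmul A, h.pi_p, zero_smul]
    exact e1
  let gS' : Derivation S A (Tw F M) :=
    Derivation.mk' (R := S) (A := A) (M := Tw F M)
      { toFun := g
        map_add' := gadd
        map_smul' := fun s a => by
          change g (s • a) = F (algebraMap S A s) • g a
          rw [Algebra.smul_def, gmul, gS, smul_zero, add_zero] }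
      (fun a a' => gmul a a')
  let L : Ω[A⁄S] →ₗ[A] Tw F M := gS'.liftKaehlerDifferential
  refine ⟨{ toFun := fun m => L (ε.symm m)
            map_add' := fun m m' => by rw [map_add, map_add]; rfl
            map_smul' := fun a m => by
              rw [map_smul, map_smul]; rfl }, fun b => ?_⟩
  change L (ε.symm (D (π b))) = _
  rw [← hε, LinearEquiv.symm_apply_apply, ← hg]
  exact Derivation.liftKaehlerDifferential_comp_D gS' _

/-- Two semilinear maps out of a universal module of differentials agreeing on the differentials are equal. -/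
theorem semilin_ext {S : Type*} [CommRing S] [Algebra S A] (ε : Ω[A⁄S] ≃ₗ[A] M)
    (hε : ∀ a, ε (KaehlerDifferential.D S A a) = D a) {A' : Type*} [CommRing A'] (τ : A →+* A')
    {M' : Type*} [AddCommGroup M'] [Module A' M'] (f g : M →+ M') (hf : ∀ (a : A) (m : M), f (a • m) = τ a • f m)
    (hg : ∀ (a : A) (m : M), g (a • m) = τ a • g m) (H : ∀ a, f (D a) = g (D a)) (m : M) : f m = g m := by
  obtain ⟨w, rfl⟩ := ε.surjective m
  have hw : w ∈ Submodule.span A (Set.range (KaehlerDifferential.D S A)) := by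
    rw [KaehlerDifferential.span_range_derivation]; trivial
  induction hw using Submodule.span_induction with
  | mem x hx =>
    obtain ⟨a, rfl⟩ := hx
    rw [hε, H]
  | zero => rw [map_zero, map_zero, map_zero]
  | add x y _ _ hx hy => rw [map_add, map_add, map_add, hx, hy]
  | smul a x _ hx => rw [map_smul, hf, hg, hx]

end psi

end K724.FrobDiff
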