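import Groth.Agent.Lift.K724.FrobDiff
import Groth.Agent.Lift.K696.Base
import Groth.Agent.Lift.K696.SqZ
import Groth.Agent.Lift.K695.ClFib
import Groth.Agent.Lift.K695.GrFlat
import Groth.Agent.FrobAlg.K673.Lift
import Groth.Agent.S18158
import Groth.Prelude.Def_Frob

/-!
# Flat lifts over `W₂(k)` with a lift of Frobenius: sections over affine opens
-/

set_option autoImplicit false
universe u

open CategoryTheory CategoryTheory.Limits AlgebraicGeometry Opposite TopologicalSpace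
open K724.FrobDiff K696.Base
open Groth.Agent.Sga67.Sec (resO resO_resO resO_self)

namespace K724.GeoLift

variable {p : ℕ} [Fact p.Prime] {k : Type u} [Field k] [CharP k p]
  {X Xl : Scheme.{u}} {f : X ⟶ Spec (CommRingCat.of k)} {g : Xl ⟶ Spec (CommRingCat.of (FrobAlg.W2 p k))}
  {i : X ⟶ Xl} (hsq : IsPullback i f g (Spec.map (CommRingCat.ofHom (FrobAlg.res p k))))

include hsq

theorem isClosedImmersion : IsClosedImmersion i := by
  have hcl : IsClosedImmersion (Spec.map (CommRingCat.ofHom (FrobAlg.res p k))) :=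
    IsClosedImmersion.spec_of_surjective _ (Groth.Agent.S18158.res_surjective p k)
  exact MorphismProperty.of_isPullback hsq.flip hcl

theorem surjective : Surjective i := by
  have hsu := Groth.Agent.S18158.surjective_SpecMap_res p k
  exact MorphismProperty.of_isPullback hsq.flip hsu

theorem isAffineOpen (V : Xl.affineOpens) : IsAffineOpen (i ⁻¹ᵁ V.1) := by
  have := isClosedImmersion hsq
  exact V.2.preimage i

variable [PerfectRing k p] [Flat g]

/-- The sections over an affine open form a flat lift modulo `p²`. -/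
theorem pLift (V : Xl.affineOpens) : PLift p (ev i (le_refl (i ⁻¹ᵁ V.1))) := by
  have hci := isClosedImmersion hsq
  have hcl : IsClosedImmersion (Spec.map (CommRingCat.ofHom (FrobAlg.res p k))) :=
    IsClosedImmersion.spec_of_surjective _ (Groth.Agent.S18158.res_surjective p k)
  let _ : Xl.Over (Spec (CommRingCat.of (FrobAlg.W2 p k))) := ⟨g⟩
  have : Flat (Xl ↘ Spec (CommRingCat.of (FrobAlg.W2 p k))) := (inferInstance : Flat g)
  let τ : FrobAlg.W2 p k →+* Γ(Xl, V.1) := Groth.Agent.FormalB.ModPowAff.toΓ (FrobAlg.W2 p k) Xl V.1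
  have hfl : τ.Flat := K695.GrFlat.flat_toΓ V
  have hker : i.ker.ideal V = Ideal.span {(p : Γ(Xl, V.1))} := by
    rw [Groth.Agent.Picfga.SecGraph.ker_eq_comap_of_isPullback hsq.flip,
      Groth.Agent.Divis.IdealComap.ideal_comap _ g ⟨⊤, isAffineOpen_top _⟩ V (fun _ _ => trivial),
      K695.ClFib.ker_specMap_ideal, Ideal.map_map, K673.W2Basic.ker_res,
      Ideal.map_span, Set.image_singleton, map_natCast]
  have hmem : ∀ b : Γ(Xl, V.1), ev i (le_refl (i ⁻¹ᵁ V.1)) b = 0 ↔ ∃ b', b = (p : Γ(Xl, V.1)) * b' := by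
    intro b
    rw [ev_eq_app]
    have h1 : (i.app V.1) b = 0 ↔ b ∈ i.ker.ideal V := by
      rw [Scheme.Hom.ker_apply]; rfl
    rw [h1, hker, Ideal.mem_span_singleton]
    rfl
  have hp2 : (p : Γ(Xl, V.1)) * (p : Γ(Xl, V.1)) = 0 := by
    have := congrArg τ (K673.W2Basic.natCast_mul_natCast p k)
    rwa [map_mul, map_natCast, map_zero] at this
  refine ⟨?_, ?_, fun b => (hmem b).1, ?_, hp2⟩
  · intro a
    obtain ⟨b, hb⟩ := i.app_surjective V.1 V.2 a
    exact ⟨b, by rw [ev_eq_app]; exact hb⟩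
  · intro b hb
    obtain ⟨b', rfl⟩ := (K673.Lift.ringHom_flat_iff p k τ).1 hfl b hb
    exact (hmem _).2 ⟨b', rfl⟩
  · have := (hmem (p : Γ(Xl, V.1))).2 ⟨1, (mul_one _).symm⟩
    rwa [map_natCast] at this

omit [PerfectRing k p] [Flat g] in
/-- A lift of Frobenius is the identity on the underlying space. -/
theorem le_preimage [FrobSch.IsCharP X p] (Fl : Xl ⟶ Xl) (hF : i ≫ Fl = FrobSch.frob X p ≫ i)
    (V : Xl.Opens) : V ≤ Fl ⁻¹ᵁ V := by
  intro y hy
  have := surjective hsq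
  obtain ⟨x, rfl⟩ := i.surjective y
  change Fl (i x) ∈ V
  have h1 : Fl (i x) = i x := by
    have h2 : (i ≫ Fl) x = (FrobSch.frob X p ≫ i) x := by rw [hF]
    simpa using h2
  rw [h1]
  exact hy

omit [PerfectRing k p] [Flat g] in
/-- The lift of Frobenius on sections. -/
theorem ev_ev_Fl [FrobSch.IsCharP X p] (Fl : Xl ⟶ Xl) (hF : i ≫ Fl = FrobSch.frob X p ≫ i)
    (V : Xl.Opens) (b : Γ(Xl, V)) :
    ev i (le_refl (i ⁻¹ᵁ V)) (ev Fl (le_preimage hsq Fl hF V) b) = ev i (le_refl (i ⁻¹ᵁ V)) b ^ p := by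
  have h1 : i ⁻¹ᵁ V ≤ (i ≫ Fl) ⁻¹ᵁ V := fun x hx => le_preimage hsq Fl hF V hx
  have h2 : i ⁻¹ᵁ V ≤ (FrobSch.frob X p ≫ i) ⁻¹ᵁ V := fun x hx => hx
  have h3 : i ⁻¹ᵁ V ≤ FrobSch.frob X p ⁻¹ᵁ (i ⁻¹ᵁ V) := fun x hx => hx
  rw [ev_comp i Fl _ _ h1, ev_congr hF h1 h2, ← ev_comp (FrobSch.frob X p) i (le_refl (i ⁻¹ᵁ V)) h3 h2,
    ev_eq]
  change resO X h3 ((ev i (le_refl (i ⁻¹ᵁ V))) b ^ p) = _
  exact resO_self _ _

end K724.GeoLift
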