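import Groth.Agent.Lift.K724.NonVan
import Groth.Agent.PosLin.K931.Eff
import Groth.Agent.PosLin.K931.Basic
import Groth.Agent.AbVar.K528.FrobPull
import Groth.Agent.VBCurve.K704.InvHom
import Groth.Agent.Surf.K455.Canon
import Groth.Agent.Surf.K455.RelDim
import Groth.Agent.Surf.K457.Form
import Groth.Agent.Nrm16.K136.UnivOmega
import Mathlib.FieldTheory.IsAlgClosed.Basic

/-!
# A lift of Frobenius modulo `p²` gives sections of powers of the inverse canonical module
-/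

set_option autoImplicit false
universe u

open CategoryTheory CategoryTheory.Limits AlgebraicGeometry Opposite TopologicalSpace
open Groth.Agent.Sga67.Sec Groth.Agent.Sga67.ExtSheaf Groth.Agent.Sga67.LocBasis
open K724.Psi K724.GeoLift K724.ExtPush K724.FrobDiff K724.NonVan K696.Base K922.Coord

namespace K724.Main

variable {p : ℕ} [Fact p.Prime] {k : Type u} [Field k] [CharP k p] [PerfectRing k p]
  {X Xl : Scheme.{u}} {f : X ⟶ Spec (CommRingCat.of k)} {g : Xl ⟶ Spec (CommRingCat.of (FrobAlg.W2 p k))}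
  [Flat g] {i : X ⟶ Xl} (hsq : IsPullback i f g (Spec.map (CommRingCat.ofHom (FrobAlg.res p k))))
  [FrobSch.IsCharP X p] (Fl : Xl ⟶ Xl) (hF : i ≫ Fl = FrobSch.frob X p ≫ i)

theorem isFrob (X : Scheme.{u}) (p : ℕ) [Fact p.Prime] [FrobSch.IsCharP X p] :
    K520.Frob.IsFrob p (FrobSch.frob X p) where
  base := rfl
  le U := le_refl U
  app U s := by
    have := ev_eq_app (FrobSch.frob X p) s (le_refl U)
    exact this

/-- The divided Frobenius on `Ω` and its top exterior power. -/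
theorem exists_maps [IsIntegral X] [QuasiSeparated f] {n : ℕ} [SmoothOfRelativeDimension n f]
    {W : X.Modules} (φ : Phi n (Omega.sheaf f) W) (hφ : PhiComp φ) :
    ∃ (Ψ : Omega.sheaf f ⟶ (Scheme.Modules.pushforward (FrobSch.frob X p)).obj (Omega.sheaf f))
      (Θ : W ⟶ (Scheme.Modules.pushforward (FrobSch.frob X p)).obj W), 
      (∀ (V : Xl.affineOpens) (b : Γ(Xl, V.1)),
        sm Ψ (i ⁻¹ᵁ V.1) (dZ (OmegaSh.dOmega f) _ (piV hsq V.1 b)) = val hsq Fl hF (OmegaSh.dOmega f) V b) ∧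
      (∀ (U : X.affineOpens) (e : Fin n → Sec (Omega.sheaf f) U.1),
        sm Θ U.1 ((φ U).symm (exteriorPower.ιMulti _ n e)) =
          (φ U).symm (exteriorPower.ιMulti _ n fun j => sm Ψ U.1 (e j))) ∧ Θ ≠ 0 := by
  have hd : AffUniv (OmegaSh.dOmega f) :=
    K922.Univ.affUniv (K136.UnivOmega.isUniversal_dOmega f)
  obtain ⟨Ψ, hΨ⟩ := exists_Psi hsq Fl hF (OmegaSh.dOmega f) hd
  obtain ⟨Θ, hΘ⟩ := exists_ext Ψ φ hφ φ hφ
  exact ⟨Ψ, Θ, hΨ, hΘ, exists_gen_ne_zero hsq Fl hF (OmegaSh.dOmega f) Ψ hΨ φ Θ hΘ hd⟩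

/-- The linear form `F^* W ⟶ W` of a morphism `W ⟶ F_* W`. -/
noncomputable def adj {M N : X.Modules} (Θ : M ⟶ (Scheme.Modules.pushforward (FrobSch.frob X p)).obj N) :
    (Scheme.Modules.pullback (FrobSch.frob X p)).obj M ⟶ N :=
  ((Scheme.Modules.pullbackPushforwardAdjunction (FrobSch.frob X p)).homEquiv _ _).symm Θ

omit [CharP k p] [PerfectRing k p] in
theorem adj_ne_zero {M N : X.Modules} {Θ : M ⟶ (Scheme.Modules.pushforward (FrobSch.frob X p)).obj N}
    (h : Θ ≠ 0) : adj Θ ≠ 0 := by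
  intro h0
  apply h
  have h1 := congrArg ((Scheme.Modules.pullbackPushforwardAdjunction (FrobSch.frob X p)).homEquiv _ _) h0
  rw [adj, Equiv.apply_symm_apply] at h1
  rw [h1, Adjunction.homEquiv_unit, Functor.map_zero, comp_zero]

open Groth.Agent.Grpsch.PicGrp K931.Eff

omit [CharP k p] [PerfectRing k p] in
/-- A nonzero map `W ⟶ F_* W` gives a nonzero section of `W^{1-p}`. -/
theorem eff_of_ne_zero [IsIntegral X] {W : X.Modules} (hW : PicF.IsInvertible W)
    {Θ : W ⟶ (Scheme.Modules.pushforward (FrobSch.frob X p)).obj W} (h : Θ ≠ 0) :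
    Eff (mk W hW / mk W hW ^ p) := by
  have hF : PicF.IsInvertible ((Scheme.Modules.pullback (FrobSch.frob X p)).obj W) :=
    Groth.Agent.Fdesc.LocGen.isInvertible_pullback _ hW
  have h1 := K704.InvHom.mono_of_ne_zero hF hW (adj Θ) (adj_ne_zero h)
  have h2 := (exists_mono_iff hF hW).1 ⟨adj Θ, h1⟩
  obtain ⟨e⟩ := K528.FrobPull.nonempty_pullback_iso_pow (isFrob X p) W hW
  rwa [mk_congr (hM := Groth.Agent.Fdesc.LocGen.isInvertible_tensorPow hW p) e, mk_tensorPow] at h2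

omit [CharP k p] [PerfectRing k p] in
theorem eff_pow_sub_one [IsIntegral X] {W : X.Modules} (hW : PicF.IsInvertible W)
    (h : Eff (mk W hW / mk W hW ^ p)) (n : ℕ) : Eff ((mk W hW ^ (p ^ n - 1))⁻¹) := by
  have hp : 2 ≤ p := (Fact.out : p.Prime).two_le
  obtain ⟨q, hq⟩ : ∃ q, p = q + 1 := ⟨p - 1, by omega⟩
  have h1 : mk W hW / mk W hW ^ p = (mk W hW ^ q)⁻¹ := by
    rw [hq, pow_succ', div_eq_mul_inv, mul_inv_rev, mul_comm, mul_assoc, inv_mul_cancel, mul_one]
  rw [h1] at h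
  obtain ⟨c, hc⟩ : p - 1 ∣ p ^ n - 1 := by
    have := Nat.sub_dvd_pow_sub_pow p 1 n
    rwa [one_pow] at this
  have h2 := h.pow c
  rw [inv_pow, ← pow_mul] at h2
  have h3 : q = p - 1 := by omega
  rwa [h3, ← hc] at h2

include hsq hF in
/-- **Sections of the powers of the inverse canonical module.** -/
theorem nontrivial_sections [IsAlgClosed k] [IsIntegral X] [QuasiSeparated f] [Smooth f] (n : ℕ)
    (hd : topologicalKrullDim X = n) {W : X.Modules} (hW : ExtPow.IsExtPow n (Omega.sheaf f) W) (m : ℕ)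
    {N : X.Modules} (hN : ClSub.IsInverseOf N (CohB1.tensorPow W (p ^ m - 1))) :
    Nontrivial (Coh.HH X N 0) := by
  have := Groth.Agent.Picfga.CurveRelDim.smoothOfRelativeDimension_of_topologicalKrullDim_eq k X f n hd
  have hWi : PicF.IsInvertible W := K455.Canon.isInvertible f n hW
  obtain ⟨φ, hφ⟩ := exists_phi hW
  obtain ⟨Ψ, Θ, -, -, hΘ⟩ := exists_maps hsq Fl hF φ hφ
  have h1 := eff_pow_sub_one hWi (eff_of_ne_zero hWi hΘ) m
  have hNi : PicF.IsInvertible N := K457.Form.isInvertible_of_inverse hN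
  have hP := Groth.Agent.Fdesc.LocGen.isInvertible_tensorPow hWi (p ^ m - 1)
  have h2 : mk N hNi * mk _ hP = 1 := by
    rw [mk_mul_mk]
    exact (mk_eq_one_iff _).2 hN
  have h3 : mk N hNi = (mk W hWi ^ (p ^ m - 1))⁻¹ := by
    rw [← mk_tensorPow]
    exact eq_inv_of_mul_eq_one_left h2
  rw [← h3, eff_mk] at h1
  exact (K931.Basic.nontrivial_H0_iff N).2 h1

end K724.Main
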