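import Groth.Agent.Lift.K724.ExtPush
import Groth.Agent.FrobAlg.K675.CartierDet
import Groth.Agent.FrobAlg.K675.EtalePB
import Groth.Agent.Dual.H376.DetSec
import Groth.Agent.LogNCD.K922.Univ

/-!
# The divided Frobenius on differentials is generically bijective
-/

set_option autoImplicit false
universe u

open CategoryTheory CategoryTheory.Limits AlgebraicGeometry Opposite TopologicalSpace
open Groth.Agent.Sga67.Sec Groth.Agent.Sga67.ExtSheaf Groth.Agent.Sga67.LocBasis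
open K724.Psi K724.GeoLift K724.ExtPush K724.FrobDiff K696.Base K675 K675.PBasis K922.Coord

namespace K724.NonVan

section good

variable {p : ℕ} [Fact p.Prime] {k : Type u} [Field k] [CharP k p]
  {X Xl : Scheme.{u}} {f : X ⟶ Spec (CommRingCat.of k)} {i : X ⟶ Xl} [IsClosedImmersion i]
  {Ω' : X.Modules} (d : OmegaSh.Der f Ω')

/-- The restriction map between affine opens is étale. -/
theorem etale_resO {U V : X.Opens} (hU : IsAffineOpen U) (hV : IsAffineOpen V) (h : V ≤ U) :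
    (resO X h).Etale := by
  have h1 := HasRingHomProperty.appLE @Etale (𝟙 X) inferInstance ⟨U, hU⟩ ⟨V, hV⟩ h
  have h2 : ((𝟙 X : X ⟶ X).appLE U V h).hom = resO X h := by
    ext a
    exact ev_id h a
  rw [← h2]
  exact h1

theorem charP_sections [FrobSch.IsCharP X p] (U : X.Opens) [Nontrivial Γ(X, U)] : CharP Γ(X, U) p := by
  have h : (p : Γ(X, U)) = 0 := FrobSch.natCast_eq_zero_app X p U
  obtain ⟨q, hq⟩ := CharP.exists Γ(X, U)
  have h1 : q ∣ p := (CharP.cast_eq_zero_iff Γ(X, U) q p).1 h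
  rcases (Nat.dvd_prime (Fact.out : p.Prime)).1 h1 with h2 | h2
  · subst h2
    exact absurd (CharP.false_of_nontrivial_of_char_one (R := Γ(X, U))) id
  · rwa [← h2]

variable [PerfectRing k p]

/-- Small affine opens with étale coordinates whose monomials form a `p`-basis. -/
theorem exists_good [FrobSch.IsCharP X p] (hd : AffUniv d) (n : ℕ) [SmoothOfRelativeDimension n f] [IsIntegral X]
    {O : X.Opens} {x : X} (hx : x ∈ O) :
    ∃ (V : Xl.affineOpens) (t : Fin n → Γ(X, i ⁻¹ᵁ V.1)), x ∈ i ⁻¹ᵁ V.1 ∧ i ⁻¹ᵁ V.1 ≤ O ∧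
      IsLocBasis (fun j => dZ d (i ⁻¹ᵁ V.1) (t j)) ∧
      IsPB p (fun e : Fin n → Fin p => ∏ j, t j ^ (e j : ℕ)) := by
  obtain ⟨U, v, hxU, hUO, hv⟩ := exists_isCoord_of_rel f n hx
  obtain ⟨W, hWU, V, e, hWO, hxW, het⟩ := hv x U.1 le_rfl hxU
  obtain ⟨_, ⟨V', rfl⟩, hx', hV'⟩ := Opens.isBasis_iff_nbhd.mp (isBasis i) hxW
  have haff : IsAffineOpen (i ⁻¹ᵁ V'.1) := V'.2.preimage i
  refine ⟨V', fun j => resO X (hV'.trans hWU) (v j), hx', (hV'.trans hWU).trans hUO, ?_, ?_⟩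
  · have h1 := (hv.isLocBasis hd).restrict (hV'.trans hWU)
    have h2 : (fun j => dZ d (i ⁻¹ᵁ V'.1) (resO X (hV'.trans hWU) (v j))) =
        fun j => res Ω' (hV'.trans hWU) (K922.DSec.dS d U.1 (v j)) := by
      funext j
      exact (K922.DSec.dS_res d (hV'.trans hWU) (v j)).symm
    rw [h2]
    exact h1
  · have hVtop : V.1 = ⊤ := by
      have h1 : f x ∈ V.1 := e hxW
      ext y
      have : y = f x := Subsingleton.elim (α := PrimeSpectrum k) _ _
      rw [this]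
      exact iff_of_true h1 trivial
    have hne : Nonempty (i ⁻¹ᵁ V'.1) := ⟨⟨x, hx'⟩⟩
    have hchar := charP_sections (X := X) (p := p) (i ⁻¹ᵁ V'.1)
    have hbij : Function.Bijective ((Spec (CommRingCat.of k)).presheaf.map (homOfLE (le_top : V.1 ≤ ⊤)).op) := by
      obtain ⟨V, hV⟩ := V
      subst hVtop
      have : (homOfLE (le_top : (⊤ : (Spec (CommRingCat.of k)).Opens) ≤ ⊤)).op = 𝟙 _ := rfl
      rw [this, CategoryTheory.Functor.map_id]
      exact Function.bijective_id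
    let γ : k →+* Γ(Spec (CommRingCat.of k), V.1) :=
      ((Spec (CommRingCat.of k)).presheaf.map (homOfLE (le_top : V.1 ≤ ⊤)).op).hom.comp
        (Scheme.ΓSpecIso (CommRingCat.of k)).inv.hom
    have hγ : Function.Bijective γ :=
      hbij.comp (ConcreteCategory.bijective_of_isIso (Scheme.ΓSpecIso (CommRingCat.of k)).inv)
    let m : MvPolynomial (Fin n) k →+* MvPolynomial (Fin n) Γ(Spec (CommRingCat.of k), V.1) :=
      MvPolynomial.map γ
    have hm : m.Etale := RingHom.Etale.of_bijective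
      ⟨MvPolynomial.map_injective _ hγ.1, MvPolynomial.map_surjective _ hγ.2⟩
    have h3 := EtalePB.etale_comp _ _ (EtalePB.etale_comp _ _ hm het) (etale_resO W.2 haff hV')
    have h4 := EtalePB.isPB_of_etale _ h3 (EtalePB.isPB_mvPolynomial_monomial p k n)
    have h2 : (fun e : Fin n → Fin p => ∏ j, (resO X (hV'.trans hWU) (v j)) ^ (e j : ℕ)) =
        fun e' => ((resO X hV').comp ((MvPolynomial.eval₂Hom (f.appLE V.1 W.1 e).hom
          (fun j => resO X hWU (v j))).comp m)) (MvPolynomial.monomial (EtalePB.expo e') (1 : k)) := by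
      funext e'
      rw [RingHom.comp_apply, RingHom.comp_apply, MvPolynomial.map_monomial, map_one,
        MvPolynomial.coe_eval₂Hom, MvPolynomial.eval₂_monomial, map_one, one_mul, Finsupp.prod_fintype _ _ (by
          intro j; rw [pow_zero]), map_prod]
      refine Finset.prod_congr rfl fun j _ => ?_
      rw [map_pow, resO_resO]
      rfl
    rw [h2]
    exact h4

end good

section matrix

variable {p : ℕ} [Fact p.Prime] {k : Type u} [Field k] [CharP k p] [PerfectRing k p]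
  {X Xl : Scheme.{u}} {f : X ⟶ Spec (CommRingCat.of k)} {g : Xl ⟶ Spec (CommRingCat.of (FrobAlg.W2 p k))}
  [Flat g] {i : X ⟶ Xl} (hsq : IsPullback i f g (Spec.map (CommRingCat.ofHom (FrobAlg.res p k))))
  [FrobSch.IsCharP X p] (Fl : Xl ⟶ Xl) (hF : i ≫ Fl = FrobSch.frob X p ≫ i)
  {Ω' : X.Modules} (d : OmegaSh.Der f Ω')

/-- The matrix of the divided Frobenius in étale coordinates has nonzero determinant. -/
theorem exists_matrix [IsIntegral X] (Ψ : Ω' ⟶ (Scheme.Modules.pushforward (FrobSch.frob X p)).obj Ω')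
    (hΨ : ∀ (V : Xl.affineOpens) (b : Γ(Xl, V.1)),
      sm Ψ (i ⁻¹ᵁ V.1) (dZ d _ (piV hsq V.1 b)) = val hsq Fl hF d V b)
    (V : Xl.affineOpens) [Nonempty (i ⁻¹ᵁ V.1)] {n : ℕ} (t : Fin n → Γ(X, i ⁻¹ᵁ V.1))
    (hb : IsLocBasis (fun j => dZ d (i ⁻¹ᵁ V.1) (t j)))
    (hpb : IsPB p (fun e : Fin n → Fin p => ∏ j, t j ^ (e j : ℕ))) :
    ∃ M : Matrix (Fin n) (Fin n) Γ(X, i ⁻¹ᵁ V.1), M.det ≠ 0 ∧
      ∀ j, sm Ψ (i ⁻¹ᵁ V.1) (dZ d _ (t j)) = ∑ l, M j l • dZ d _ (t l) := by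
  let A := Γ(X, i ⁻¹ᵁ V.1)
  have hchar : CharP A p := charP_sections (X := X) (p := p) (i ⁻¹ᵁ V.1)
  let β : Module.Basis (Fin n) A (Sec Ω' (i ⁻¹ᵁ V.1)) := hb.basis le_rfl
  have hβ : ∀ j, β j = dZ d _ (t j) := by
    intro j
    rw [hb.basis_apply, res_self]
  choose T hT using fun j => (pLift hsq V).surj (t j)
  let fs : Fin n → A := fun j =>
    del (pLift hsq V) (ev Fl (le_preimage hsq Fl hF V.1)) (ev_ev_Fl hsq Fl hF V.1) (T j)
  have ht : ∀ j, t j ≠ 0 := by
    intro j h0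
    have h1 := β.ne_zero j
    rw [hβ, h0, map_zero] at h1
    exact h1 rfl
  let ds : Fin n → Derivation ℤ A A := fun l => (β.coord l).compDer (dZ d (i ⁻¹ᵁ V.1))
  have hds : ∀ j l, ds l (t j) = if j = l then 1 else 0 := by
    intro j l
    change β.coord l (dZ d _ (t j)) = _
    rw [← hβ, Module.Basis.coord_apply, Module.Basis.repr_self, Finsupp.single_apply]
  refine ⟨_, CartierDet.det_ne_zero ht hpb ds hds fs, fun j => ?_⟩
  have h1 := hΨ V (T j)
  rw [piV, hT j] at h1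
  rw [h1, val, psi0, hT j]
  have h2 : dZ d (i ⁻¹ᵁ V.1) (fs j) = ∑ l, ds l (fs j) • dZ d _ (t l) := by
    have h3 := β.sum_repr (dZ d (i ⁻¹ᵁ V.1) (fs j))
    rw [← h3]
    refine Finset.sum_congr rfl fun l _ => ?_
    rw [← hβ l]
    rfl
  have h4 : ∀ l, (Matrix.of fun i j : Fin n => (if i = j then t i ^ (p - 1) else 0) + ds j (fs i)) j l •
      dZ d (i ⁻¹ᵁ V.1) (t l) = (if j = l then t j ^ (p - 1) • dZ d (i ⁻¹ᵁ V.1) (t l) else 0) +
        ds l (fs j) • dZ d _ (t l) := by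
    intro l
    rw [Matrix.of_apply, add_smul, ite_smul, zero_smul]
  simp only [h4]
  rw [Finset.sum_add_distrib, ← h2, Finset.sum_ite_eq, if_pos (Finset.mem_univ _)]

/-- The top exterior power of the divided Frobenius is nonzero. -/
theorem exists_gen_ne_zero [IsIntegral X] (Ψ : Ω' ⟶ (Scheme.Modules.pushforward (FrobSch.frob X p)).obj Ω')
    (hΨ : ∀ (V : Xl.affineOpens) (b : Γ(Xl, V.1)),
      sm Ψ (i ⁻¹ᵁ V.1) (dZ d _ (piV hsq V.1 b)) = val hsq Fl hF d V b)
    {n : ℕ} {W : X.Modules} (φ : Phi n Ω' W)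
    (Θ : W ⟶ (Scheme.Modules.pushforward (FrobSch.frob X p)).obj W)
    (hΘ : ∀ (U : X.affineOpens) (e : Fin n → Sec Ω' U.1),
        sm Θ U.1 ((φ U).symm (exteriorPower.ιMulti _ n e)) =
          (φ U).symm (exteriorPower.ιMulti _ n fun j => sm Ψ U.1 (e j)))
    (hd : AffUniv d) [SmoothOfRelativeDimension n f] : Θ ≠ 0 := by
  have hci := isClosedImmersion hsq
  obtain ⟨x⟩ : Nonempty X := inferInstance
  obtain ⟨V, t, hx, -, hb, hpb⟩ := exists_good (i := i) (p := p) d hd n (O := ⊤) (x := x) trivial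
  have hne : Nonempty (i ⁻¹ᵁ V.1) := ⟨⟨x, hx⟩⟩
  obtain ⟨M, hM, hM'⟩ := exists_matrix hsq Fl hF d Ψ hΨ V t hb hpb
  let U : X.affineOpens := ⟨i ⁻¹ᵁ V.1, isAffineOpen hsq V⟩
  have h1 := hΘ U (fun j => dZ d _ (t j))
  have h2 : (fun j => sm Ψ U.1 (dZ d _ (t j))) = fun j => ∑ l, M j l • dZ d _ (t l) := funext hM'
  rw [h2, Groth.Agent.Dual.H376.AltDet.alt_det (exteriorPower.ιMulti Γ(X, U.1) n) (fun l => dZ d _ (t l)) M] at h1
  intro h0
  rw [h0] at h1
  have h3 : M.det • exteriorPower.ιMulti Γ(X, U.1) n (fun l => dZ d (i ⁻¹ᵁ V.1) (t l)) = 0 := by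
    apply (φ U).symm.injective
    rw [map_zero, ← h1]
    rfl
  let β : Module.Basis (Fin n) Γ(X, U.1) (Sec Ω' U.1) := hb.basis le_rfl
  have hβ : (β : Fin n → Sec Ω' U.1) = fun j => dZ d _ (t j) := by
    funext j
    rw [hb.basis_apply, res_self]
  have h4 := Groth.Agent.Dual.H376.AltDet.bijective_smul_ιMulti β
  rw [hβ] at h4
  exact hM (h4.1 (h3.trans (zero_smul _ _).symm))

end matrix

end K724.NonVan
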