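import Groth.Agent.Lift.K724.SemIso
import Groth.Agent.CohqA.EpiNeg
import Groth.Agent.S0844
import Groth.Agent.S15531
import Groth.Agent.Gaga.H883.Serre
import Groth.Agent.S1697
import Groth.Agent.Fga.HShift
import Groth.Agent.Sga67.TensorOps
import Groth.Agent.Lefpen.H717.ProjIrr

/-!
# Frobenius-fixed modules on the projective line have no nonzero maps to negative line bundles
-/

set_option autoImplicit false
universe u

open CategoryTheory CategoryTheory.Limits AlgebraicGeometry Opposite TopologicalSpace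
open Groth.Agent.Sga67.Sec Groth.Agent.Sga67.ExtSheaf Groth.Agent.Sga67.LocBasis
open K724.Psi K724.ExtPush K724.Main K724.SemIso
open Groth.Agent.Grpsch.PicGrp K931.Eff

namespace K724.P1Van

section faithful

variable {X : Scheme.{u}} {p : ℕ} [Fact p.Prime] [FrobSch.IsCharP X p]

/-- The Frobenius pullback of a nonzero map to an invertible module on a reduced scheme is nonzero. -/
theorem map_pullback_ne_zero [IsReduced X] {E N : X.Modules} (hN : PicF.IsInvertible N) (δ : E ⟶ N) (hδ : δ ≠ 0) :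
    (Scheme.Modules.pullback (FrobSch.frob X p)).map δ ≠ 0 := by
  intro h0
  apply hδ
  apply hom_ext_of_locally
  intro x O hx
  obtain ⟨U, hxU, ⟨e⟩⟩ := hN x
  obtain ⟨b, hb⟩ := (nonempty_restrict_iso_iff (M := N) (U := U) (n := 1)).1
    ⟨e ≪≫ (Limits.coproductUniqueIso (fun _ : Fin 1 => Coh.structureModule (↑U : Scheme.{u}))).symm⟩
  refine ⟨O ⊓ U, inf_le_left, ⟨hx, hxU⟩, fun s => ?_⟩
  have h1 : appS ((Scheme.Modules.pullback (FrobSch.frob X p)).map δ) (O ⊓ U) (pF p E s) = 0 := by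
    rw [h0, appS_zero]
  rw [appS_pF] at h1
  obtain ⟨a, ha⟩ := (hb (O ⊓ U) inf_le_right).2 (appS δ (O ⊓ U) s)
  have hb' := isLocBasis_pF (p := p) hb
  have h2 : comb (M := (Scheme.Modules.pullback (FrobSch.frob X p)).obj N) (fun k => pF p N (b k))
      (inf_le_right : O ⊓ U ≤ U) (fun j => a j ^ p) = 0 := by
    rw [comb_apply, Fin.sum_univ_one, res_pF, ← pF_smul, ← h1, ← ha, comb_apply, Fin.sum_univ_one]
  have h3 : (fun j => a j ^ p) = (0 : Fin 1 → Γ(X, O ⊓ U)) :=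
    (hb' (O ⊓ U) inf_le_right).1 (h2.trans (map_zero _).symm)
  have h4 : a = 0 := by
    funext j
    have h5 : a j ^ p = 0 := congrFun h3 j
    exact pow_eq_zero_iff (Fact.out : p.Prime).ne_zero |>.1 h5
  rw [← ha, h4, map_zero, appS_zero]

/-- A nonzero map from a Frobenius-fixed module to `L` gives nonzero maps to all `L^{p^n}`. -/
theorem exists_ne_zero [IsIntegral X] {E L : X.Modules} (hL : PicF.IsInvertible L)
    (e : (Scheme.Modules.pullback (FrobSch.frob X p)).obj E ≅ E) (δ : E ⟶ L) (hδ : δ ≠ 0) (n : ℕ) :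
    ∃ δ' : E ⟶ CohB1.tensorPow L (p ^ n), δ' ≠ 0 := by
  induction n with
  | zero =>
    have h1 : Nonempty (L ≅ CohB1.tensorPow L (p ^ 0)) := by
      rw [← mk_eq_iff hL (Groth.Agent.Fdesc.LocGen.isInvertible_tensorPow hL _), mk_tensorPow, pow_zero, pow_one]
    obtain ⟨e'⟩ := h1
    refine ⟨δ ≫ e'.hom, fun h => hδ ?_⟩
    rw [← cancel_mono e'.hom, h, zero_comp]
  | succ n ih =>
    obtain ⟨δ', hδ'⟩ := ih
    have hLn := Groth.Agent.Fdesc.LocGen.isInvertible_tensorPow hL (p ^ n)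
    have h1 := map_pullback_ne_zero (p := p) hLn δ' hδ'
    obtain ⟨e1⟩ := K528.FrobPull.nonempty_pullback_iso_pow (isFrob X p) _ hLn
    have h2 : Nonempty (CohB1.tensorPow (CohB1.tensorPow L (p ^ n)) p ≅ CohB1.tensorPow L (p ^ (n + 1))) := by
      rw [← mk_eq_iff (Groth.Agent.Fdesc.LocGen.isInvertible_tensorPow hLn _)
        (Groth.Agent.Fdesc.LocGen.isInvertible_tensorPow hL _), mk_tensorPow hLn, mk_tensorPow hL, mk_tensorPow hL,
        ← pow_mul, ← pow_succ]
    obtain ⟨e2⟩ := h2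
    refine ⟨e.inv ≫ (Scheme.Modules.pullback (FrobSch.frob X p)).map δ' ≫ (e1 ≪≫ e2).hom, fun h => h1 ?_⟩
    rw [← cancel_mono (e1 ≪≫ e2).hom, ← cancel_epi e.inv, h, zero_comp, comp_zero]

end faithful

section P1

variable (k : Type u) [Field k]

/-- The twisting modules on the projective line. -/
noncomputable abbrev O (a : ℤ) : (CohB1.ProjSpace 1 k).Modules := Twist.twistProjSpace 1 k a

theorem inv_O (a : ℤ) : PicF.IsInvertible (O k a) := Groth.Agent.Gaga.H883.Serre.isInvertible_O 1 k a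

theorem mk_mul (a b : ℤ) : mk (O k a) (inv_O k a) * mk (O k b) (inv_O k b) = mk (O k (a + b)) (inv_O k (a + b)) := by
  obtain ⟨e⟩ := Groth.Agent.Gaga.H883.Serre.O_mul 1 k a b
  rw [mk_mul_mk]
  exact mk_congr e

theorem mk_zero : mk (O k 0) (inv_O k 0) = 1 := by
  obtain ⟨e⟩ := Groth.Agent.Gaga.H883.Serre.O_zero 1 k
  exact (mk_eq_one_iff _).2 ⟨e⟩

theorem mk_congr' {a b : ℤ} (h : a = b) : mk (O k a) (inv_O k a) = mk (O k b) (inv_O k b) := by subst h; rfl

theorem mk_pow (a : ℤ) (m : ℕ) : mk (O k a) (inv_O k a) ^ m = mk (O k (m * a)) (inv_O k (m * a)) := by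
  induction m with
  | zero => rw [pow_zero, ← mk_zero]; exact mk_congr' k (by simp)
  | succ m ih =>
    rw [pow_succ, ih, mk_mul]
    exact mk_congr' k (by push_cast; ring)

theorem mk_div (a b : ℤ) : mk (O k a) (inv_O k a) / mk (O k b) (inv_O k b) = mk (O k (a - b)) (inv_O k (a - b)) := by
  rw [div_eq_iff_eq_mul, mk_mul]
  exact mk_congr' k (by ring)

theorem not_eff {a : ℤ} (ha : a < 0) : ¬ Eff (mk (O k a) (inv_O k a)) := by
  intro h
  rw [eff_mk, ← K931.Basic.nontrivial_H0_iff] at h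
  have h1 := Groth.Agent.S0844.result k 1 a 0 (fun h => by omega) (fun h => by omega)
  exact not_subsingleton _ h1

/-- The module of differentials of the projective line is a negative twist. -/
theorem exists_omega_iso : ∃ a : ℤ, a < 0 ∧ Nonempty (Omega.sheaf (CohB1.ProjSpace.toSpec 1 k) ≅ O k a) := by
  have hE := Groth.Agent.Sga67.TensorOps.isExtPow_one (Omega.sheaf (CohB1.ProjSpace.toSpec 1 k))
  have hp : IsProper (CohB1.ProjSpace.toSpec 1 k) := Groth.Agent.Ega3B.ProjProper.isProper_toSpec 1 k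
  obtain ⟨e1⟩ := Groth.Agent.S15531.result k 1 le_rfl 1 le_rfl _ hE
  have hrk : FlatMod.IsFinLocFreeOfRank 1 (Omega.sheaf (CohB1.ProjSpace.toSpec 1 k)) := K54.HodgePn.rank_omega 1 k
  have hinv : PicF.IsInvertible (Omega.sheaf (CohB1.ProjSpace.toSpec 1 k)) := by
    intro x
    obtain ⟨U, hU, ⟨e⟩⟩ := hrk x
    exact ⟨U, hU, ⟨e ≪≫ Limits.coproductUniqueIso (fun _ : Fin 1 => Coh.structureModule (↑U : Scheme.{u}))⟩⟩
  obtain ⟨a, ⟨e⟩⟩ := Groth.Agent.S1697.result k 1 _ hinv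
  refine ⟨a, ?_, ⟨e⟩⟩
  by_contra ha
  have h1 := Groth.Agent.S0844.result k 1 a 1 (fun h => by omega) (fun h => by omega)
  have h2 : Subsingleton (Coh.HH (CohB1.ProjSpace 1 k) (Omega.sheaf (CohB1.ProjSpace.toSpec 1 k)) 1) :=
    Groth.Agent.Fga.HShift.subsingleton_of_iso e.symm 1 h1
  have h3 : Subsingleton k := e1.symm.toEquiv.subsingleton
  exact not_subsingleton k h3

variable {k} {p : ℕ} [Fact p.Prime] [FrobSch.IsCharP (CohB1.ProjSpace 1 k) p]

/-- A Frobenius-fixed coherent module on the projective line has no nonzero map to a negative twist. -/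
theorem eq_zero_of_fixed {E : (CohB1.ProjSpace 1 k).Modules} (hE : Coh.IsCoh E)
    (e : (Scheme.Modules.pullback (FrobSch.frob (CohB1.ProjSpace 1 k) p)).obj E ≅ E)
    {L : (CohB1.ProjSpace 1 k).Modules} {a : ℤ} (ha : a < 0) (eL : L ≅ O k a) (δ : E ⟶ L) : δ = 0 := by
  have hint := Groth.Agent.Lefpen.H717.ProjIrr.isIntegral_projSpace 1 k
  by_contra hδ
  have hL : PicF.IsInvertible L := Groth.Agent.Gaga.H883.Serre.isInvertible_O 1 k a |> fun h => by
    intro x
    obtain ⟨U, hU, ⟨e'⟩⟩ := h x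
    exact ⟨U, hU, ⟨(Scheme.Modules.restrictFunctor U.ι).mapIso eL ≪≫ e'⟩⟩
  have hmk : mk L hL = mk (O k a) (inv_O k a) := mk_congr eL
  obtain ⟨m, d, -, φ, hφ⟩ := Groth.Agent.CohqA.EpiNeg.exists_epi_neg 1 k 0 E hE
  obtain ⟨N, hN⟩ : ∃ N : ℕ, ∀ j, -(N : ℤ) ≤ d j := by
    refine ⟨∑ j, (d j).natAbs, fun j => ?_⟩
    have h1 : (d j).natAbs ≤ ∑ j, (d j).natAbs := Finset.single_le_sum (f := fun j => (d j).natAbs) (fun _ _ => Nat.zero_le _) (Finset.mem_univ j)
    omega
  obtain ⟨δ', hδ'⟩ := exists_ne_zero (p := p) hL e δ hδ N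
  have h1 : φ ≫ δ' ≠ 0 := by
    intro h0
    apply hδ'
    rw [← cancel_epi φ, h0, comp_zero]
  obtain ⟨j, hj⟩ : ∃ j, Sigma.ι (fun j : Fin m => Twist.twistProjSpace 1 k (d j)) j ≫ φ ≫ δ' ≠ 0 := by
    by_contra h
    push Not at h
    apply h1
    refine Sigma.hom_ext _ _ fun j => ?_
    rw [h j, comp_zero]
  have hLn := Groth.Agent.Fdesc.LocGen.isInvertible_tensorPow hL (p ^ N)
  have h2 := K704.InvHom.mono_of_ne_zero (inv_O k (d j)) hLn _ hj
  have h3 := (exists_mono_iff (inv_O k (d j)) hLn).1 ⟨_, h2⟩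
  rw [mk_tensorPow hL, hmk, mk_pow, mk_div] at h3
  refine not_eff k ?_ h3
  have h4 : N < p ^ N := Nat.lt_pow_self (Fact.out : p.Prime).one_lt
  have h5 := hN j
  have h6 : ((p ^ N : ℕ) : ℤ) * a ≤ -((p ^ N : ℕ) : ℤ) := by nlinarith [Int.natCast_nonneg (p ^ N)]
  have h7 : (N : ℤ) < ((p ^ N : ℕ) : ℤ) := by exact_mod_cast h4
  linarith

end P1

end K724.P1Van
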