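import Groth.Agent.Lift.K724.GeoLift
import Groth.Agent.LogNCD.K922.Univ
import Groth.Agent.Nrm16.K136.UnivOmega

/-!
# The map `Ω → F_* Ω` attached to a lift of Frobenius modulo `p²`

For `X` with a flat lift `Xl` over `W₂(k)` and a lift of Frobenius, the divided Frobenius on differentials glues to a
morphism `Ω ⟶ F_* Ω`, `F` the absolute Frobenius.
-/

set_option autoImplicit false
universe u

open CategoryTheory CategoryTheory.Limits AlgebraicGeometry Opposite TopologicalSpace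
open K724.FrobDiff K724.GeoLift K696.Base
open Groth.Agent.Sga67.Sec

namespace K724.Psi

section basis

variable {X Xl : Scheme.{u}} (i : X ⟶ Xl)

theorem isBasis [IsClosedImmersion i] :
    Opens.IsBasis (Set.range fun V : Xl.affineOpens => i ⁻¹ᵁ V.1) := by
  rw [Opens.isBasis_iff_nbhd]
  intro U x hx
  have h1 : i x ∈ im i U := (mem_im_iff i).2 hx
  obtain ⟨_, ⟨V, hV, rfl⟩, hxV, hVU⟩ := Xl.isBasis_affineOpens.exists_subset_of_mem_open h1 (im i U).2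
  refine ⟨_, ⟨⟨V, hV⟩, rfl⟩, hxV, ?_⟩
  exact (le_im_iff i).1 hVU

end basis

section sm

variable {X : Scheme.{u}} {p : ℕ} [Fact p.Prime] [FrobSch.IsCharP X p] {M N : X.Modules}

/-- A morphism `M ⟶ F_* N` on sections. -/
noncomputable def sm (Φ : M ⟶ (Scheme.Modules.pushforward (FrobSch.frob X p)).obj N) (U : X.Opens) :
    Sec M U →+ Sec N U where
  toFun s := (show Sec N U from appS Φ U s)
  map_zero' := map_zero (appS Φ U)
  map_add' s t := map_add (appS Φ U) s t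

variable (Φ : M ⟶ (Scheme.Modules.pushforward (FrobSch.frob X p)).obj N)

theorem sm_smul (U : X.Opens) (a : Γ(X, U)) (s : Sec M U) : sm Φ U (a • s) = a ^ p • sm Φ U s :=
  map_smul (appS Φ U) a s

theorem sm_res {U V : X.Opens} (h : V ≤ U) (s : Sec M U) : sm Φ V (res M h s) = res N h (sm Φ U s) :=
  appS_res Φ h s

theorem sm_ext {Φ Φ' : M ⟶ (Scheme.Modules.pushforward (FrobSch.frob X p)).obj N}
    {ι : Type*} {B : ι → X.Opens} (hB : Opens.IsBasis (Set.range B))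
    (H : ∀ (j : ι) (s : Sec M (B j)), sm Φ (B j) s = sm Φ' (B j) s) : Φ = Φ' := by
  apply hom_ext_of_locally
  intro x U hx
  obtain ⟨_, ⟨j, rfl⟩, hxV, hV⟩ := Opens.isBasis_iff_nbhd.mp hB hx
  exact ⟨B j, hV, hxV, fun s => H j s⟩

/-- Morphisms `M ⟶ F_* N` from data on a basis. -/
theorem exists_push {ι : Type*} {B : ι → X.Opens} (hB : Opens.IsBasis (Set.range B))
    (φ : ∀ j, Sec M (B j) →+ Sec N (B j)) (hφ : ∀ j (a : Γ(X, B j)) s, φ j (a • s) = a ^ p • φ j s)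
    (hres : ∀ j j' (h : B j' ≤ B j) s, φ j' (res M h s) = res N h (φ j s)) :
    ∃ Φ : M ⟶ (Scheme.Modules.pushforward (FrobSch.frob X p)).obj N, ∀ j s, sm Φ (B j) s = φ j s :=
  exists_hom_of_basis' hB M ((Scheme.Modules.pushforward (FrobSch.frob X p)).obj N)
    (fun j => { toFun := fun s => φ j s
                map_add' := map_add (φ j)
                map_smul' := fun a s => hφ j a s })
    (fun j j' h s => hres j j' h s)

end sm

section der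

variable {X S : Scheme.{u}} {f : X ⟶ S} {Ω' : X.Modules} (d : OmegaSh.Der f Ω')

/-- The derivation on sections, as a derivation over `ℤ`. -/
noncomputable def dZ (U : X.Opens) : Derivation ℤ Γ(X, U) (Sec Ω' U) :=
  Derivation.mk' (AddMonoidHom.toIntLinearMap (K922.DSec.dS d U)) (fun a b => K922.DSec.dS_mul d U a b)

theorem dZ_apply (U : X.Opens) (a : Γ(X, U)) : dZ d U a = K922.DSec.dS d U a := rfl

theorem res_dZ {U V : X.Opens} (h : V ≤ U) (a : Γ(X, U)) :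
    res Ω' h (dZ d U a) = dZ d V (resO X h a) := K922.DSec.dS_res d h a

end der

section main

variable {p : ℕ} [Fact p.Prime] {k : Type u} [Field k] [CharP k p] [PerfectRing k p]
  {X Xl : Scheme.{u}} {f : X ⟶ Spec (CommRingCat.of k)} {g : Xl ⟶ Spec (CommRingCat.of (FrobAlg.W2 p k))}
  [Flat g] {i : X ⟶ Xl} (hsq : IsPullback i f g (Spec.map (CommRingCat.ofHom (FrobAlg.res p k))))
  [FrobSch.IsCharP X p] (Fl : Xl ⟶ Xl) (hF : i ≫ Fl = FrobSch.frob X p ≫ i)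
  {Ω' : X.Modules} (d : OmegaSh.Der f Ω')

/-- The map `π` from sections of the lift. -/
noncomputable abbrev piV (_ : IsPullback i f g (Spec.map (CommRingCat.ofHom (FrobAlg.res p k)))) (V : Xl.Opens) :
    Γ(Xl, V) →+* Γ(X, i ⁻¹ᵁ V) := ev i (le_refl (i ⁻¹ᵁ V))

/-- The value `(π b)^(p-1) d(π b) + d(δ b)`. -/
noncomputable def val (V : Xl.affineOpens) (b : Γ(Xl, V.1)) : Sec Ω' (i ⁻¹ᵁ V.1) :=
  psi0 (pLift hsq V) (ev Fl (le_preimage hsq Fl hF V.1)) (ev_ev_Fl hsq Fl hF V.1) (dZ d (i ⁻¹ᵁ V.1)) b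

theorem res_val {V V' : Xl.affineOpens} (h : V'.1 ≤ V.1) (h' : i ⁻¹ᵁ V'.1 ≤ i ⁻¹ᵁ V.1) (b : Γ(Xl, V.1)) :
    res Ω' h' (val hsq Fl hF d V b) = val hsq Fl hF d V' (resO Xl h b) := by
  have e1 : ∀ c : Γ(Xl, V.1), resO X h' (piV hsq V.1 c) = piV hsq V'.1 (resO Xl h c) := by
    intro c
    rw [res_ev, ev_res]
  have e2 : resO X h' (del (pLift hsq V) (ev Fl (le_preimage hsq Fl hF V.1)) (ev_ev_Fl hsq Fl hF V.1) b) =
      del (pLift hsq V') (ev Fl (le_preimage hsq Fl hF V'.1)) (ev_ev_Fl hsq Fl hF V'.1) (resO Xl h b) := by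
    apply eq_del
    have e3 : ∀ a : Γ(X, i ⁻¹ᵁ V.1), j (pLift hsq V') (resO X h' a) = resO Xl h (j (pLift hsq V) a) := by
      intro a
      obtain ⟨c, rfl⟩ := (pLift hsq V).surj a
      have := e1 c
      rw [piV, piV] at this
      rw [this, j_pi, j_pi, map_mul, map_natCast]
    rw [e3, j_del, map_sub, map_pow, res_ev, ev_res]
  have e4 := e1 b
  rw [piV, piV] at e4
  rw [val, val, psi0, psi0, map_add, res_smul, res_dZ, res_dZ, e2, map_pow, e4]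

omit [PerfectRing k p] [FrobSch.IsCharP X p] in
/-- Semilinear maps on the sections of `Ω'` over an affine open are determined on differentials. -/
theorem semilin_ext_affine (hd : K922.Coord.AffUniv d) (U : X.affineOpens) {A' : Type*} [CommRing A']
    (τ : Γ(X, U.1) →+* A') {M' : Type*} [AddCommGroup M'] [Module A' M'] (a b : Sec Ω' U.1 →+ M')
    (ha : ∀ (r : Γ(X, U.1)) (m : Sec Ω' U.1), a (r • m) = τ r • a m)
    (hb : ∀ (r : Γ(X, U.1)) (m : Sec Ω' U.1), b (r • m) = τ r • b m)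
    (H : ∀ r, a (dZ d U.1 r) = b (dZ d U.1 r)) (m : Sec Ω' U.1) : a m = b m := by
  let e : U.1 ≤ f ⁻¹ᵁ (⊤ : (Spec (CommRingCat.of k)).Opens) := fun _ _ => trivial
  let _ := (f.appLE ⊤ U.1 e).hom.toAlgebra
  obtain ⟨ε, hε⟩ := hd U ⟨⊤, isAffineOpen_top _⟩ e
  exact semilin_ext (dZ d U.1) ε hε τ a b ha hb H m

theorem exists_semi (hd : K922.Coord.AffUniv d) (V : Xl.affineOpens) :
    ∃ ψ : Sec Ω' (i ⁻¹ᵁ V.1) →+ Sec Ω' (i ⁻¹ᵁ V.1),
      (∀ (a : Γ(X, i ⁻¹ᵁ V.1)) (m : Sec Ω' (i ⁻¹ᵁ V.1)), ψ (a • m) = a ^ p • ψ m) ∧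
      ∀ b, ψ (dZ d _ (piV hsq V.1 b)) = val hsq Fl hF d V b := by
  let U : X.affineOpens := ⟨i ⁻¹ᵁ V.1, isAffineOpen hsq V⟩
  let e : U.1 ≤ f ⁻¹ᵁ (⊤ : (Spec (CommRingCat.of k)).Opens) := fun _ _ => trivial
  let _ := (f.appLE ⊤ U.1 e).hom.toAlgebra
  obtain ⟨ε, hε⟩ := hd U ⟨⊤, isAffineOpen_top _⟩ e
  let F : Γ(X, i ⁻¹ᵁ V.1) →+* Γ(X, i ⁻¹ᵁ V.1) := ((FrobSch.frob X p).app (i ⁻¹ᵁ V.1)).hom
  have hF' : ∀ a, F a = a ^ p := fun a => rfl
  have hS : ∀ s : Γ(Spec (CommRingCat.of k), ⊤), ∃ a : Γ(X, i ⁻¹ᵁ V.1),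
      algebraMap Γ(Spec (CommRingCat.of k), ⊤) Γ(X, i ⁻¹ᵁ V.1) s = a ^ p := by
    intro s
    obtain ⟨c, rfl⟩ : ∃ c : k, (Scheme.ΓSpecIso (CommRingCat.of k)).inv c = s :=
      ⟨(Scheme.ΓSpecIso (CommRingCat.of k)).hom s,
        congr($((Scheme.ΓSpecIso (CommRingCat.of k)).hom_inv_id) s)⟩
    obtain ⟨x, rfl⟩ : ∃ x : k, x ^ p = c := (PerfectRing.bijective_frobenius (R := k) (p := p)).2 c
    exact ⟨algebraMap Γ(Spec (CommRingCat.of k), ⊤) Γ(X, i ⁻¹ᵁ V.1)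
      ((Scheme.ΓSpecIso (CommRingCat.of k)).inv x), by rw [map_pow, map_pow]⟩
  obtain ⟨ψ, hψ⟩ := exists_psi (pLift hsq V) (ev Fl (le_preimage hsq Fl hF V.1))
    (ev_ev_Fl hsq Fl hF V.1) (dZ d (i ⁻¹ᵁ V.1)) hS F hF' ε hε
  exact ⟨ψ.toAddMonoidHom, fun a m => ψ.map_smulₛₗ a m, hψ⟩

/-- The divided Frobenius `Ω ⟶ F_* Ω`. -/
theorem exists_Psi (hd : K922.Coord.AffUniv d) :
    ∃ Ψ : Ω' ⟶ (Scheme.Modules.pushforward (FrobSch.frob X p)).obj Ω',
      ∀ (V : Xl.affineOpens) (b : Γ(Xl, V.1)),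
        sm Ψ (i ⁻¹ᵁ V.1) (dZ d _ (piV hsq V.1 b)) = val hsq Fl hF d V b := by
  have hci := isClosedImmersion hsq
  have hsu := surjective hsq
  choose ψ hψ1 hψ2 using exists_semi hsq Fl hF d hd
  obtain ⟨Ψ, hΨ⟩ := exists_push (isBasis i) (M := Ω') (N := Ω') (p := p) ψ hψ1 (by
    intro V V' h s
    have hVV : V'.1 ≤ V.1 := by
      intro y hy
      obtain ⟨x, rfl⟩ := i.surjective y
      exact h hy
    let FF : Γ(X, i ⁻¹ᵁ V'.1) →+* Γ(X, i ⁻¹ᵁ V'.1) := ((FrobSch.frob X p).app (i ⁻¹ᵁ V'.1)).hom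
    refine semilin_ext_affine d hd ⟨i ⁻¹ᵁ V.1, isAffineOpen hsq V⟩
      (FF.comp (resO X h))
      ((ψ V').comp (res Ω' h)) ((res Ω' h).comp (ψ V)) ?_ ?_ ?_ s
    · intro r m
      rw [AddMonoidHom.comp_apply, res_smul, hψ1]
      rfl
    · intro r m
      rw [AddMonoidHom.comp_apply, hψ1, res_smul, map_pow]
      rfl
    · intro r
      obtain ⟨b, rfl⟩ := (pLift hsq V).surj r
      change ψ V' (res Ω' h (dZ d (i ⁻¹ᵁ V.1) (ev i _ b))) = res Ω' h (ψ V (dZ d (i ⁻¹ᵁ V.1) (ev i _ b)))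
      have e5 := hψ2 V b
      rw [piV] at e5
      rw [e5, res_val hsq Fl hF d hVV, res_dZ, ← hψ2 V', res_ev, piV, ev_res])
  exact ⟨Ψ, fun V b => (hΨ V _).trans (hψ2 V b)⟩

end main

end K724.Psi
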