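import Groth.Agent.RatCurve.K915.RatIff
import Groth.Agent.An.H4.CurveEmbed
import Groth.Agent.CycB.ImageInt
import Mathlib.FieldTheory.IsAlgClosed.Basic

/-!
# Maps from the projective line are constant or dominate a rational curve
-/

set_option autoImplicit false
universe u

namespace K724.RatMap

open CategoryTheory CategoryTheory.Limits AlgebraicGeometry
open K915.RatIff

/-- A dominant morphism from the affine line to a curve `C` makes `C` rational. -/
theorem exists_iso_of_dominant' (k : Type u) [Field k] (C : Scheme.{u}) [IsIntegral C]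
    (p : C ⟶ Spec (CommRingCat.of k)) [LocallyOfFiniteType p] (hdim : ¬ topologicalKrullDim C ≤ 0)
    (R : CommRingCat.{u}) [IsDomain R] (cR : CommRingCat.of k ⟶ R) (e0 : R ≃+* Polynomial k)
    (hc : ∀ c, e0 (cR.hom c) = Polynomial.C c) [LocallyOfFiniteType (Spec.map cR)]
    (g : Spec R ⟶ C) (hg : g ≫ p = Spec.map cR) (hgd : DenseRange g) :
    ∃ (U : C.Opens) (V : (Spec R).Opens)
      (e : (↑U : Scheme.{u}) ≅ ↑V), (U : Set C).Nonempty ∧
      e.hom ≫ V.ι ≫ Spec.map cR = U.ι ≫ p := by
  let _ : C.Over (Spec (CommRingCat.of k)) := ⟨p⟩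
  have _ : LocallyOfFiniteType (C ↘ (Spec (CommRingCat.of k))) := ‹LocallyOfFiniteType p›
  obtain ⟨φ, hφ⟩ := exists_stalk_map g (map_genericPoint g hgd)
  -- the three fields
  let aC : k →+* C.functionField := Curv2.stalkMap k C (genericPoint C)
  have haC : Spec.map (CommRingCat.ofHom aC) = C.fromSpecStalk _ ≫ p :=
    Groth.Agent.VarietyB.ResMap.specMap_stalkMap k C _
  let aM : k →+* (Spec R).functionField :=
    (algebraMap R (Spec R).functionField).comp cR.hom
  have haM : Spec.map (CommRingCat.ofHom aM) =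
      (Spec R).fromSpecStalk _ ≫ Spec.map cR := by
    rw [K915.Luroth.fromSpecStalk_eq, ← Spec.map_comp]
    rfl
  have hcomp : ∀ c, φ.hom (aC c) = aM c := by
    intro c
    have h1 : CommRingCat.ofHom aC ≫ φ = CommRingCat.ofHom aM := by
      apply Spec.map_injective
      rw [Spec.map_comp, haC, haM, reassoc_of% hφ, hg]
    exact congr($(h1).hom c)
  have hne : ¬ Function.Surjective aC := by
    intro hs
    have h1 : (@Algebra.trdeg k (C.residueField (genericPoint C)) _ _
        (Curv2.resAlgebra k C _)) = (0 : ℕ) := by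
      let _ := Curv2.resAlgebra k C (genericPoint C)
      have h3 : Algebra.IsAlgebraic k (C.residueField (genericPoint C)) := by
        constructor
        intro x
        obtain ⟨y, rfl⟩ := C.residue_surjective _ x
        obtain ⟨c, rfl⟩ := hs y
        exact isAlgebraic_algebraMap (A := C.residueField (genericPoint C)) c
      rw [Nat.cast_zero]
      exact _root_.trdeg_eq_zero
    have h2 := Groth.Agent.S1619.result k C 0 h1
    exact hdim h2.le
  obtain ⟨e, he⟩ := K915.Luroth.exists_ratFunc_aux k R e0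
  obtain ⟨ψ, hψ⟩ := K915.Luroth.luroth aC aM e (fun c => by
    refine (he _).trans ?_
    rw [hc]
    rfl) φ.hom hcomp hne
  have hψ' : CommRingCat.ofHom aC ≫ CommRingCat.ofHom (ψ : C.functionField →+* (Spec R).functionField)
      = CommRingCat.ofHom aM := by
    ext c
    exact hψ c
  let ψ' : C.functionField ≅ (Spec R).functionField := ψ.toCommRingCatIso
  have hψ'' : CommRingCat.ofHom aC ≫ ψ'.hom = CommRingCat.ofHom aM := hψ'
  have : Subsingleton ↥(Spec (CommRingCat.of k)) := inferInstanceAs (Subsingleton (PrimeSpectrum k))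
  have hX : LocallyOfFinitePresentation p :=
    LocallyOfFinitePresentation.iff_locallyOfFiniteType.mpr inferInstance
  have hY : LocallyOfFinitePresentation (Spec.map cR) :=
    LocallyOfFinitePresentation.iff_locallyOfFiniteType.mpr inferInstance
  have e1 : p (genericPoint C) =
    (Spec.map cR) (genericPoint (Spec R)) := Subsingleton.elim _ _
  obtain ⟨U, hxU, V, f, hf, -, h2⟩ := K653.LocalIso.exists_isIso_spread_out
    p (Spec.map cR) e1 ψ'.inv (by
      apply Spec.map_injective
      rw [← cancel_mono ((Spec (CommRingCat.of k)).fromSpecStalk _), Spec.map_comp, Spec.map_comp,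
        Category.assoc, Category.assoc, Scheme.SpecMap_stalkMap_fromSpecStalk,
        Scheme.SpecMap_stalkSpecializes_fromSpecStalk, Scheme.SpecMap_stalkMap_fromSpecStalk,
        ← haC, ← haM, ← Spec.map_comp, ← hψ'', Category.assoc, ψ'.hom_inv_id]
      exact congrArg Spec.map (Category.comp_id _))
  exact ⟨U, V, asIso f, ⟨_, hxU⟩, h2⟩


open Groth.Agent.Sga5

/-- A map from the projective line to a proper scheme is constant, or there is a map from the projective line to the same
scheme which is a monomorphism on a nonempty open subset. -/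
theorem dichotomy (k : Type u) [Field k] [IsAlgClosed k] {X : Scheme.{u}} (f : X ⟶ Spec (CommRingCat.of k)) [IsProper f]
    (u : CohB1.ProjSpace 1 k ⟶ X) (hu : u ≫ f = CohB1.ProjSpace.toSpec 1 k) :
    (∃ x : Spec (CommRingCat.of k) ⟶ X, x ≫ f = 𝟙 _ ∧ u = CohB1.ProjSpace.toSpec 1 k ≫ x) ∨
    (∃ (V : (CohB1.ProjSpace 1 k).Opens) (u' : CohB1.ProjSpace 1 k ⟶ X), Nonempty V ∧
      u' ≫ f = CohB1.ProjSpace.toSpec 1 k ∧ Mono (V.ι ≫ u')) := by
  have hp : ∀ m, IsProper (CohB1.ProjSpace.toSpec m k) :=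
    fun m => Groth.Agent.Ega3B.ProjProper.isProper_toSpec m k
  have := hp 1
  have hint := Groth.Agent.Lefpen.H717.ProjIrr.isIntegral_projSpace 1 k
  have hfp : IsProper (u ≫ f) := by rw [hu]; infer_instance
  have hfq : IsProper u := IsProper.of_comp u f
  let C : Scheme.{u} := u.image
  let i : C ⟶ X := u.imageι
  let f' : CohB1.ProjSpace 1 k ⟶ C := u.toImage
  have hf' : f' ≫ i = u := u.toImage_imageι
  have hCint : IsIntegral C := Groth.Agent.CycB.ImageInt.isIntegral_image u
  have hcl : IsClosedImmersion i := inferInstance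
  have hpC : IsProper (i ≫ f) := inferInstance
  by_cases hdim : topologicalKrullDim C ≤ 0
  · left
    have hiso : IsIso (i ≫ f) := Groth.Agent.An.H4.CurveEmbed.isIso_of_dim_zero k (i ≫ f) hdim
    refine ⟨inv (i ≫ f) ≫ i, by rw [Category.assoc, IsIso.inv_hom_id], ?_⟩
    have h1 : f' ≫ i ≫ f = CohB1.ProjSpace.toSpec 1 k := by rw [reassoc_of% hf', hu]
    rw [← h1, Category.assoc, Category.assoc, ← Category.assoc i f, IsIso.hom_inv_id_assoc, hf']
  · right
    have hdense : DenseRange f' := IsDominant.denseRange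
    have hirr := Groth.Agent.Lefpen.H717.ProjIrr.irreducibleSpace_projSpace (k := k) (n := 1)
    let j := ProjSmooth.chart 1 k 0
    let g := j ≫ f'
    have hgd : DenseRange g := by
      rw [Scheme.Hom.comp_base, TopCat.coe_comp]
      refine hdense.comp ?_ f'.continuous
      exact j.isOpenEmbedding.isOpen_range.dense ⟨_, ⟨Classical.arbitrary _, rfl⟩⟩
    have h5 : LocallyOfFiniteType (Spec.map (CommRingCat.ofHom
        (MvPolynomial.C : k →+* MvPolynomial (Fin 1) k))) := by
      rw [← ProjSmooth.chart_toSpec 1 k 0]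
      infer_instance
    obtain ⟨U, V, e, hU, he⟩ := exists_iso_of_dominant' k C (i ≫ f) hdim
      (CommRingCat.of (MvPolynomial (Fin 1) k)) (CommRingCat.ofHom MvPolynomial.C)
      (MvPolynomial.uniqueAlgEquiv k (Fin 1)).toRingEquiv
      (fun c => (MvPolynomial.uniqueAlgEquiv k (Fin 1)).commutes c) g (by
        rw [Category.assoc, reassoc_of% hf', hu, ProjSmooth.chart_toSpec]) hgd
    let V' : (CohB1.ProjSpace 1 k).Opens := j ''ᵁ V
    let e' : (↑U : Scheme.{u}) ≅ ↑V' := e ≪≫ j.isoImage V
    have he' : e'.hom ≫ V'.ι ≫ CohB1.ProjSpace.toSpec 1 k = U.ι ≫ i ≫ f := by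
      rw [Iso.trans_hom, Category.assoc, Scheme.Hom.isoImage_hom_ι_assoc, ProjSmooth.chart_toSpec, he]
    obtain ⟨y, hy⟩ := hU
    have hVne : (V' : Set (CohB1.ProjSpace 1 k)).Nonempty := ⟨(e'.hom ⟨y, hy⟩).1, (e'.hom ⟨y, hy⟩).2⟩
    let _ : (CohB1.ProjSpace 1 k).Over (Spec (CommRingCat.of k)) := ⟨CohB1.ProjSpace.toSpec 1 k⟩
    let _ : X.Over (Spec (CommRingCat.of k)) := ⟨f⟩
    have h1 : LocallyOfFiniteType ((CohB1.ProjSpace 1 k) ↘ (Spec (CommRingCat.of k))) :=
      inferInstanceAs (LocallyOfFiniteType (CohB1.ProjSpace.toSpec 1 k))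
    have h2 : QuasiCompact ((CohB1.ProjSpace 1 k) ↘ (Spec (CommRingCat.of k))) :=
      inferInstanceAs (QuasiCompact (CohB1.ProjSpace.toSpec 1 k))
    have h3 : IsSeparated ((CohB1.ProjSpace 1 k) ↘ (Spec (CommRingCat.of k))) :=
      inferInstanceAs (IsSeparated (CohB1.ProjSpace.toSpec 1 k))
    have h4 : IsProper (X ↘ (Spec (CommRingCat.of k))) := inferInstanceAs (IsProper f)
    obtain ⟨u', ⟨hu1, hu2⟩, -⟩ := Groth.Agent.S2344.result k (CohB1.ProjSpace 1 k) X
      (fun x hx => Groth.Agent.Lefpen.H705.ClosedPoint.ringKrullDim_stalk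
        (CohB1.ProjSpace.toSpec 1 k) 1 x hx)
      (fun x => by
        obtain ⟨h5, h6⟩ := Groth.Agent.Lefpen.H723.P1Flat.stalk_pid k x
        exact ⟨h5, inferInstance⟩) V' (V'.isOpen.dense hVne) (e'.inv ≫ U.ι ≫ i) (by
        change (e'.inv ≫ U.ι ≫ i) ≫ f = V'.ι ≫ CohB1.ProjSpace.toSpec 1 k
        rw [Category.assoc, Category.assoc, ← he', e'.inv_hom_id_assoc])
    refine ⟨V', u', ⟨⟨_, hVne.choose_spec⟩⟩, hu2, ?_⟩
    rw [hu1]
    infer_instance

end K724.RatMap
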