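import Groth.Agent.Lift.K724.Main
import Groth.Agent.Krr.H487.ExtPull
import Groth.Agent.VBCurve.K703.Scalar

/-!
# When the divided Frobenius is an isomorphism `F^* Ω ≅ Ω`
-/

set_option autoImplicit false
universe u

open CategoryTheory CategoryTheory.Limits AlgebraicGeometry Opposite TopologicalSpace
open Groth.Agent.Sga67.Sec Groth.Agent.Sga67.ExtSheaf Groth.Agent.Sga67.LocBasis
open K724.Psi K724.ExtPush K724.Main

namespace K724.SemIso

variable {X : Scheme.{u}} {p : ℕ} [Fact p.Prime] [FrobSch.IsCharP X p]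

variable (p) in
/-- The pullback of sections along the absolute Frobenius. -/
noncomputable def pF (M : X.Modules) {U : X.Opens} :
    Sec M U →+ Sec ((Scheme.Modules.pullback (FrobSch.frob X p)).obj M) U :=
  Groth.Agent.Krr.H487.LocBasisPull.pbS (FrobSch.frob X p) M

theorem pF_smul (M : X.Modules) {U : X.Opens} (a : Γ(X, U)) (s : Sec M U) :
    pF p M (a • s) = a ^ p • pF p M s :=
  Groth.Agent.Krr.H487.LocBasisPull.pbS_smul (FrobSch.frob X p) M a s

theorem res_pF (M : X.Modules) {U V : X.Opens} (h : V ≤ U) (s : Sec M U) :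
    res _ h (pF p M s) = pF p M (res M h s) :=
  Groth.Agent.Krr.H487.LocBasisPull.res_pbS (FrobSch.frob X p) M h h s

theorem appS_pF {M N : X.Modules} (g : M ⟶ N) {U : X.Opens} (s : Sec M U) :
    appS ((Scheme.Modules.pullback (FrobSch.frob X p)).map g) U (pF p M s) = pF p N (appS g U s) :=
  Groth.Agent.Krr.H487.LocBasisPull.appS_pbS (FrobSch.frob X p) g s

theorem isLocBasis_pF {M : X.Modules} {U : X.Opens} {κ : Type*} [Fintype κ] {b : κ → Sec M U}
    (hb : IsLocBasis b) :
    IsLocBasis (M := (Scheme.Modules.pullback (FrobSch.frob X p)).obj M) (U := U) (fun k => pF p M (b k)) :=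
  Groth.Agent.Krr.H487.LocBasisPull.isLocBasis_pbS (FrobSch.frob X p) hb

theorem adj_pF {M N : X.Modules} (Φ : M ⟶ (Scheme.Modules.pushforward (FrobSch.frob X p)).obj N)
    {U : X.Opens} (s : Sec M U) : appS (adj Φ) U (pF p M s) = sm Φ U s :=
  Groth.Agent.Krr.H487.LocBasisPull.adj_pbS (FrobSch.frob X p) Φ s

theorem bijective_vecMul {R : Type*} [CommRing R] {n : ℕ} (M : Matrix (Fin n) (Fin n) R) (h : IsUnit M.det) :
    Function.Bijective (fun a : Fin n → R => Matrix.vecMul a M) := by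
  constructor
  · intro a b hab
    have h1 := congrArg (fun v => Matrix.vecMul v M⁻¹) hab
    simpa [Matrix.vecMul_vecMul, Matrix.mul_nonsing_inv M h] using h1
  · intro b
    refine ⟨Matrix.vecMul b M⁻¹, ?_⟩
    change Matrix.vecMul (Matrix.vecMul b M⁻¹) M = b
    rw [Matrix.vecMul_vecMul, Matrix.nonsing_inv_mul M h, Matrix.vecMul_one]

/-- If the top exterior power of `F^* M ⟶ M` is an isomorphism, so is `F^* M ⟶ M`. -/
theorem isIso_adj {n : ℕ} {M W : X.Modules} (hM : FlatMod.IsFinLocFreeOfRank n M)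
    (φ : Phi n M W) (hφ : PhiComp φ) (Ψ : M ⟶ (Scheme.Modules.pushforward (FrobSch.frob X p)).obj M)
    (Θ : W ⟶ (Scheme.Modules.pushforward (FrobSch.frob X p)).obj W)
    (hΘ : ∀ (U : X.affineOpens) (e : Fin n → Sec M U.1),
        sm Θ U.1 ((φ U).symm (exteriorPower.ιMulti _ n e)) =
          (φ U).symm (exteriorPower.ιMulti _ n fun j => sm Ψ U.1 (e j)))
    [IsIso (adj Θ)] : IsIso (adj Ψ) := by
  apply isIso_of_bijective
  intro x O hx
  obtain ⟨U₀, hxU₀, e₀⟩ := hM x
  obtain ⟨b₀, hb₀⟩ := nonempty_restrict_iso_iff.1 e₀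
  obtain ⟨_, ⟨V, hV, rfl⟩, hxV, hVO⟩ :=
    X.isBasis_affineOpens.exists_subset_of_mem_open (show x ∈ O ⊓ U₀ from ⟨hx, hxU₀⟩) (O ⊓ U₀).2
  have hVU : V ≤ U₀ := fun y hy => (hVO hy).2
  let U : X.affineOpens := ⟨V, hV⟩
  let b : Fin n → Sec M V := fun j => res M hVU (b₀ j)
  have hb : IsLocBasis b := hb₀.restrict hVU
  let β : Module.Basis (Fin n) Γ(X, V) (Sec M V) := hb.basis le_rfl
  have hβ : ∀ j, β j = b j := fun j => by rw [hb.basis_apply, res_self]
  let A : Matrix (Fin n) (Fin n) Γ(X, V) := fun j l => β.repr (sm Ψ V (b j)) l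
  have hA : ∀ j, sm Ψ V (b j) = ∑ l, A j l • b l := by
    intro j
    rw [← β.sum_repr (sm Ψ V (b j))]
    refine Finset.sum_congr rfl fun l _ => ?_
    rw [hβ]
  -- the determinant is a unit
  let w : Sec W V := (φ U).symm (exteriorPower.ιMulti _ n b)
  have hw : sm Θ V w = A.det • w := by
    have h1 := hΘ U b
    have h2 : (fun j => sm Ψ U.1 (b j)) = fun j => ∑ l, A j l • b l := funext hA
    rw [h2, Groth.Agent.Dual.H376.AltDet.alt_det (exteriorPower.ιMulti Γ(X, V) n) b A, map_smul] at h1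
    exact h1
  have hgen := Groth.Agent.Dual.H376.DetSec.isGen_gen φ hφ (U := U) hb
  rw [Groth.Agent.Dual.H376.GlueGen.isGen_iff] at hgen
  have hgen' := isLocBasis_pF (p := p) hgen
  have hdet : IsUnit A.det := by
    have h3 := (appS_hom_inv (asIso (adj Θ)) V)
    have h4 := (appS_inv_hom (asIso (adj Θ)) V w)
    let t : Sec ((Scheme.Modules.pullback (FrobSch.frob X p)).obj W) V := appS (asIso (adj Θ)).inv V w
    obtain ⟨a, ha⟩ := (hgen' V le_rfl).2 t
    rw [comb_apply, Fin.sum_univ_one, res_self] at ha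
    have h5 : appS (adj Θ) V t = w := h4
    rw [← ha, map_smul] at h5
    have h6 : appS (adj Θ) V (pF p W w) = A.det • w :=
      (adj_pF Θ w).trans hw
    have h7 : a 0 • A.det • w = w := by rw [← h6]; exact h5
    have h8 : a 0 * A.det = 1 := by
      have h9 := (hgen V le_rfl).1 (a₁ := fun _ => a 0 * A.det) (a₂ := fun _ => 1) (by
        rw [comb_apply, comb_apply, Fin.sum_univ_one, Fin.sum_univ_one, res_self, one_smul, mul_smul]
        exact h7)
      exact congrFun h9 0
    exact IsUnit.of_mul_eq_one (a 0) (by rw [mul_comm]; exact h8)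
  have hpb := isLocBasis_pF (p := p) hb
  refine ⟨V, fun y hy => (hVO hy).1, hxV, ?_⟩
  have h1 : (appS (adj Ψ) V) ∘ (comb (fun j => pF p M (b j))
      (le_refl V)) = (comb b (le_refl V) : (Fin n → Γ(X, V)) → Sec M V) ∘ (fun a => Matrix.vecMul a A) := by
    funext a
    rw [Function.comp_apply, Function.comp_apply, comb_apply, comb_apply, map_sum]
    have h2 : ∀ j, appS (adj Ψ) V (a j • res _ (le_refl V)
        (pF p M (b j))) = ∑ l, (a j * A j l) • b l := by
      intro j
      rw [map_smul, res_self, adj_pF, hA, Finset.smul_sum]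
      simp only [mul_smul]
    rw [Finset.sum_congr rfl fun j _ => h2 j, Finset.sum_comm]
    refine Finset.sum_congr rfl fun l _ => ?_
    rw [← Finset.sum_smul, res_self]
    rfl
  have h2 : Function.Bijective ((appS (adj Ψ) V) ∘ (comb (fun j =>
      pF p M (b j)) (le_refl V))) := by
    rw [h1]
    exact (hb V le_rfl).comp (bijective_vecMul A hdet)
  exact (Function.Bijective.of_comp_iff _ (hpb V le_rfl)).mp h2

open Groth.Agent.Grpsch.PicGrp K931.Eff

/-- For a torsion canonical class a nonzero `F^* W ⟶ W` is an isomorphism. -/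
theorem isIso_adj_of_torsion {k : Type u} [Field k] [IsAlgClosed k] (f : X ⟶ Spec (CommRingCat.of k)) [IsProper f]
    [IsIntegral X] {W : X.Modules} (hW : PicF.IsInvertible W) {m : ℕ} (hm : 0 < m)
    (ht : Nonempty (CohB1.tensorPow W m ≅ Coh.structureModule X))
    {Θ : W ⟶ (Scheme.Modules.pushforward (FrobSch.frob X p)).obj W} (hΘ : Θ ≠ 0) : IsIso (adj Θ) := by
  let _ : X.Over (Spec (CommRingCat.of k)) := ⟨f⟩
  have : IsProper (X ↘ Spec (CommRingCat.of k)) := (inferInstance : IsProper f)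
  have hF : PicF.IsInvertible ((Scheme.Modules.pullback (FrobSch.frob X p)).obj W) :=
    Groth.Agent.Fdesc.LocGen.isInvertible_pullback _ hW
  have h1 : mk W hW ^ m = 1 := by
    rw [← mk_tensorPow]
    exact (mk_eq_one_iff _).2 ht
  have h2 := eff_of_ne_zero hW hΘ
  have h3 : (mk W hW / mk W hW ^ p) ^ m = 1 := by
    rw [div_pow, ← pow_mul, mul_comm p m, pow_mul, h1, one_pow, div_one]
  have h4 : (mk W hW / mk W hW ^ p)⁻¹ = (mk W hW / mk W hW ^ p) ^ (m - 1) := by
    apply inv_eq_of_mul_eq_one_right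
    rw [← pow_succ', Nat.sub_add_cancel hm, h3]
  have h5 := h2.pow (m - 1)
  rw [← h4, inv_div] at h5
  obtain ⟨e⟩ := K528.FrobPull.nonempty_pullback_iso_pow (isFrob X p) W hW
  rw [← mk_tensorPow, ← mk_congr (hL := hF) (hM := Groth.Agent.Fdesc.LocGen.isInvertible_tensorPow hW p) e] at h5
  obtain ⟨β, hβ⟩ := (exists_mono_iff hW hF).2 h5
  have h6 : Mono (adj Θ) := K704.InvHom.mono_of_ne_zero hF hW (adj Θ) (adj_ne_zero hΘ)
  have h7 : β ≫ adj Θ ≠ 0 := by
    have : Mono (β ≫ adj Θ) := mono_comp _ _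
    exact K704.InvHom.ne_zero_of_mono hW _
  obtain ⟨c, hc⟩ := K703.Scalar.end_scalar (k := k) hW (β ≫ adj Θ)
  have hc0 : c ≠ 0 := by
    rintro rfl
    exact h7 (by rw [hc, zero_smul])
  have h8 : (c⁻¹ • β) ≫ adj Θ = 𝟙 W := by
    rw [Linear.smul_comp, hc, smul_smul, inv_mul_cancel₀ hc0, one_smul]
  have h9 : IsSplitEpi (adj Θ) := IsSplitEpi.mk' ⟨c⁻¹ • β, h8⟩
  exact isIso_of_mono_of_isSplitEpi _

end K724.SemIso
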